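import Cfsg.Agent.Lib.Solvable.FixedPointFree
import Cfsg.Agent.Lib.CN.FpfAut
import Mathlib.GroupTheory.SemidirectProduct
import Mathlib.GroupTheory.SpecificGroups.ZGroup

/-!
# Fixed point free actions and the two-prime lemma used for class sizes `1, m, m n`
-/

set_option autoImplicit false
set_option linter.style.haveILetI false

namespace Cfsg.Agent.ClassTriple

universe u v

section semidirect

variable {Z : Type u} [Group Z] [Finite Z] {A : Type v} [Group A] [Finite A]

lemma semidirect_setup (φ : A →* MulAut Z)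
    (hfpf : ∀ a : A, a ≠ 1 → ∀ z : Z, φ a z = z → z = 1) :
    (SemidirectProduct.inr : A →* Z ⋊[φ] A).range ≤
        Subgroup.normalizer (((SemidirectProduct.inl : Z →* Z ⋊[φ] A).range : Subgroup _) : Set _) ∧
      ∀ x ∈ (SemidirectProduct.inr : A →* Z ⋊[φ] A).range, x ≠ 1 →
        (SemidirectProduct.inl : Z →* Z ⋊[φ] A).range ⊓ Subgroup.centralizer {x} = ⊥ := by
  refine ⟨?_, ?_⟩
  · rw [show Subgroup.normalizer (((SemidirectProduct.inl : Z →* Z ⋊[φ] A).range : Subgroup _) :
        Set (Z ⋊[φ] A)) = ⊤ from by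
      rw [SemidirectProduct.range_inl_eq_ker_rightHom]; exact Subgroup.normalizer_eq_top _]
    exact le_top
  · rintro _ ⟨a, rfl⟩ ha
    rw [eq_bot_iff]
    rintro _ ⟨⟨z, rfl⟩, hz⟩
    rw [Subgroup.mem_bot]
    have ha' : a ≠ 1 := fun h => ha (by rw [h, map_one])
    have h2 := SemidirectProduct.inl_aut (φ := φ) a z
    rw [← (Subgroup.mem_centralizer_singleton_iff.mp hz), mul_assoc, ← map_mul,
      mul_inv_cancel, map_one, mul_one] at h2
    rw [hfpf a ha' z (SemidirectProduct.inl_injective h2), map_one]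

lemma range_inl_ne_bot [Nontrivial Z] (φ : A →* MulAut Z) :
    (SemidirectProduct.inl : Z →* Z ⋊[φ] A).range ≠ ⊥ := by
  obtain ⟨z, hz⟩ := exists_ne (1 : Z)
  intro h
  have : SemidirectProduct.inl (φ := φ) z ∈ (SemidirectProduct.inl : Z →* Z ⋊[φ] A).range := ⟨z, rfl⟩
  rw [h, Subgroup.mem_bot, ← map_one (SemidirectProduct.inl (φ := φ))] at this
  exact hz (SemidirectProduct.inl_injective this)

/-- A commutative group acting fixed point freely on a nontrivial finite group is cyclic. -/
theorem isCyclic_of_fpf_comm [Nontrivial Z] [IsMulCommutative A] (φ : A →* MulAut Z)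
    (hfpf : ∀ a : A, a ≠ 1 → ∀ z : Z, φ a z = z → z = 1) : IsCyclic A := by
  haveI : Finite (Z ⋊[φ] A) := Finite.of_equiv _ SemidirectProduct.equivProd.symm
  obtain ⟨hAK, hf⟩ := semidirect_setup φ hfpf
  have hc := FpfStruct.abelian_cyclic (range_inl_ne_bot φ) hAK hf
  exact isCyclic_of_surjective
    (MonoidHom.ofInjective (SemidirectProduct.inr_injective (φ := φ))).symm (MulEquiv.surjective _)

end semidirect

/-- A group of order `p q` acting fixed point freely on a nontrivial abelian group is cyclic. -/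
theorem isCyclic_of_fpf_pq {Z : Type u} [CommGroup Z] [Finite Z] [Nontrivial Z] {A : Type v}
    [Group A] [Finite A] {p q : ℕ} (hp : p.Prime) (hq : q.Prime) (hcard : Nat.card A = p * q)
    (φ : A →* MulAut Z) (hfpf : ∀ a : A, a ≠ 1 → ∀ z : Z, φ a z = z → z = 1) : IsCyclic A := by
  haveI : Finite (Z ⋊[φ] A) := Finite.of_equiv _ SemidirectProduct.equivProd.symm
  obtain ⟨hAK, hf⟩ := semidirect_setup φ hfpf
  have hc := FpfStruct.pq_cyclic (range_inl_ne_bot φ) hAK hf hp hq
    ((Nat.card_congr
      (MonoidHom.ofInjective (SemidirectProduct.inr_injective (φ := φ))).toEquiv).symm.trans hcard)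
  exact isCyclic_of_surjective
    (MonoidHom.ofInjective (SemidirectProduct.inr_injective (φ := φ))).symm (MulEquiv.surjective _)

/-- An element of order two acting fixed point freely on an abelian group inverts it. -/
lemma inverts_of_fpf {E : Type v} [Group E] {A : Type u} [CommGroup A] (ρ : E →* MulAut A)
    {i : E} (hi : i * i = 1) (h : ∀ a, ρ i a = a → a = 1) (a : A) : ρ i a = a⁻¹ := by
  have h1 : ρ i (ρ i a) = a := by rw [← MulAut.mul_apply, ← map_mul, hi, map_one]; rfl
  have h2 : a * ρ i a = 1 := h _ (by rw [map_mul, h1, mul_comm])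
  exact eq_inv_of_mul_eq_one_right h2

lemma commutator_trivial_of_inverts {E : Type v} [Group E] {A : Type u} [CommGroup A]
    (ρ : E →* MulAut A) {i : E} (hi : ∀ a, ρ i a = a⁻¹) (e : E) (a : A) :
    ρ (e * i * e⁻¹ * i⁻¹) a = a := by
  have hinv : ∀ a, (ρ i)⁻¹ a = a⁻¹ := fun a => by
    rw [MulAut.inv_def, MulEquiv.symm_apply_eq, hi, inv_inv]
  simp only [map_mul, map_inv, MulAut.mul_apply, hi, hinv, inv_inv]
  exact MulAut.apply_inv_self (A) (ρ e) a

lemma cyclic_zpowers_eq {N : Type v} [Group N] [Finite N] [IsCyclic N] {a b : N} {r : ℕ}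
    (hr : 0 < r) (ha : orderOf a = r) (hb : orderOf b = r) :
    Subgroup.zpowers a = Subgroup.zpowers b := by
  classical
  haveI := Fintype.ofFinite N
  set F := Finset.univ.filter (fun x : N => x ^ r = 1) with hF
  have hle : F.card ≤ r := IsCyclic.card_pow_eq_one_le hr
  have hsub : ∀ c : N, orderOf c = r → (Finset.univ.filter (· ∈ Subgroup.zpowers c)) = F := by
    intro c hc
    refine Finset.eq_of_subset_of_card_le (fun x hx => ?_) ?_
    · refine Finset.mem_filter.2 ⟨Finset.mem_univ _, ?_⟩
      obtain ⟨k, rfl⟩ := mem_powers_iff_mem_zpowers.2 (Finset.mem_filter.1 hx).2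
      show (c ^ k) ^ r = 1
      rw [← pow_mul, mul_comm k r, pow_mul, ← hc, pow_orderOf_eq_one, one_pow]
    · refine hle.trans (le_of_eq ?_)
      rw [← Fintype.card_subtype, ← Nat.card_eq_fintype_card, ← hc]
      exact (Nat.card_zpowers c).symm
  ext x
  have h := (hsub a ha).trans (hsub b hb).symm
  simpa using Finset.ext_iff.1 h x

lemma exists_subgroup_card_mul {E : Type v} [Group E] [Finite E] {t r : ℕ} (ht : t.Prime)
    (hr : r.Prime) (htr : t ≠ r) (N : Subgroup E) [N.Normal] (hN : IsCyclic N) (hrN : r ∣ Nat.card N)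
    (hte : t ∣ Nat.card E) : ∃ X : Subgroup E, Nat.card X = t * r := by
  haveI := Fact.mk ht
  haveI := Fact.mk hr
  obtain ⟨h, hh⟩ := exists_prime_orderOf_dvd_card' (G := N) r hrN
  obtain ⟨g, hg⟩ := exists_prime_orderOf_dvd_card' (G := E) t hte
  have hgn : Subgroup.zpowers g ≤ Subgroup.normalizer
      ((Subgroup.zpowers (h : E) : Subgroup E) : Set E) := by
    refine fun y _ => ?_
    haveI : IsCyclic N := hN
    obtain ⟨a, ha⟩ := IsCyclic.exists_generator (α := N)
    have key : ∀ z : E, z * (h : E) * z⁻¹ ∈ Subgroup.zpowers (h : E) := by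
      intro z
      have hz : z * (h : E) * z⁻¹ ∈ N := (inferInstance : N.Normal).conj_mem _ h.2 z
      have h1 : Subgroup.zpowers (⟨_, hz⟩ : N) = Subgroup.zpowers h := by
        refine cyclic_zpowers_eq hr.pos ?_ hh
        rw [Subgroup.orderOf_mk, ← hh, ← Subgroup.orderOf_coe h]
        exact (orderOf_injective (MulAut.conj z).toMonoidHom (MulAut.conj z).injective
          (h : E))
      obtain ⟨k, hk⟩ := Subgroup.mem_zpowers_iff.1 (h1 ▸ Subgroup.mem_zpowers (⟨_, hz⟩ : N))
      exact Subgroup.mem_zpowers_iff.2 ⟨k, by simpa using congrArg Subtype.val hk⟩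
    rw [Subgroup.mem_normalizer_iff]
    intro z
    constructor
    · intro hz
      obtain ⟨k, rfl⟩ := Subgroup.mem_zpowers_iff.1 hz
      rw [← conj_zpow]
      exact Subgroup.zpow_mem _ (key y) k
    · intro hz
      obtain ⟨k, hk⟩ := Subgroup.mem_zpowers_iff.1 hz
      have h2 : z = (y⁻¹ * (h : E) * y⁻¹⁻¹) ^ k := by rw [conj_zpow, hk]; group
      rw [h2]
      exact Subgroup.zpow_mem _ (key y⁻¹) k
  refine ⟨Subgroup.zpowers (h : E) ⊔ Subgroup.zpowers g, ?_⟩
  have hdisj : Subgroup.zpowers (h : E) ⊓ Subgroup.zpowers g = ⊥ := by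
    refine (Subgroup.disjoint_of_coprime_natCard ?_).eq_bot
    rw [Nat.card_zpowers, Nat.card_zpowers, Subgroup.orderOf_coe, hh, hg]
    exact (Nat.coprime_primes hr ht).2 htr.symm
  rw [SolvBasic.card_sup_of_inf_eq_bot hgn hdisj, Nat.card_zpowers, Nat.card_zpowers,
    Subgroup.orderOf_coe, hh, hg, mul_comm]

/-- The two-prime lemma: no finite group can act in three compatible ways like this. -/
theorem two_prime_false {E : Type v} [Group E] [Finite E] {t r : ℕ} (ht : t.Prime) (hr : r.Prime)
    (htr : t ≠ r) (hte : t ∣ Nat.card E) (hre : r ∣ Nat.card E)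
    {A B V : Type u} [CommGroup A] [CommGroup B] [CommGroup V] [Finite A] [Finite B] [Finite V]
    [Nontrivial A] [Nontrivial B] [Nontrivial V]
    (ρA : E →* MulAut A) (ρB : E →* MulAut B) (ρV : E →* MulAut V)
    (hA : ∀ e : E, (orderOf e).Prime → orderOf e ≠ t → ∀ a, ρA e a = a → a = 1)
    (hB : ∀ e : E, (orderOf e).Prime → orderOf e ≠ r → ∀ a, ρB e a = a → a = 1)
    (hV : ∀ e : E, (orderOf e = t ∨ orderOf e = r) → ∀ v, ρV e v = v → v = 1)
    (hno : ∀ (e : E) (l : ℕ), l.Prime → l ≠ t → orderOf e ≠ t * l) : False := by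
  classical
  haveI := Fact.mk ht
  haveI := Fact.mk hr
  -- no element of prime order fixes everything
  have triv : ∀ k : E, (∀ e ∈ Subgroup.zpowers k, (orderOf e).Prime → False) → k = 1 := by
    intro k hk
    by_contra h1
    have hne : orderOf k ≠ 1 := mt orderOf_eq_one_iff.1 h1
    have hp := Nat.minFac_prime hne
    haveI := Fact.mk hp
    obtain ⟨e, he⟩ := exists_prime_orderOf_dvd_card' (G := Subgroup.zpowers k) (orderOf k).minFac
      (Nat.card_zpowers k ▸ Nat.minFac_dvd _)
    exact hk e e.2 (by rw [Subgroup.orderOf_coe, he]; exact hp)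
  have fixpow : ∀ {W : Type u} [CommGroup W] (ρ : E →* MulAut W) (k : E), (∀ a, ρ k a = a) →
      ∀ e ∈ Subgroup.zpowers k, ∀ a, ρ e a = a := by
    intro W _ ρ k hk e he a
    obtain ⟨j, rfl⟩ := mem_powers_iff_mem_zpowers.2 he
    have : ρ k = 1 := MulEquiv.ext hk
    simp [this]
  -- `|E|` is odd
  have hodd : Odd (Nat.card E) := by
    rw [← Nat.not_even_iff_odd, even_iff_two_dvd]
    intro h2
    haveI := Fact.mk Nat.prime_two
    obtain ⟨i, hi⟩ := exists_prime_orderOf_dvd_card' (G := E) 2 h2
    have hii : i * i = 1 := by rw [← sq, ← hi, pow_orderOf_eq_one]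
    have hi2 : (orderOf i).Prime := hi ▸ Nat.prime_two
    have hcen : ∀ e : E, e * i = i * e := by
      intro e
      have hk : e * i * e⁻¹ * i⁻¹ = 1 := by
        set k := e * i * e⁻¹ * i⁻¹
        refine triv k fun e' he' hpr => ?_
        obtain ⟨a, ha⟩ := exists_ne (1 : A)
        obtain ⟨b, hb⟩ := exists_ne (1 : B)
        obtain ⟨v, hv⟩ := exists_ne (1 : V)
        by_cases ht2 : t = 2
        · have hiB := inverts_of_fpf ρB hii (hB i hi2 (by rw [hi, ← ht2]; exact htr))
          have hiV := inverts_of_fpf ρV hii (hV i (Or.inl (hi.trans ht2.symm)))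
          by_cases hr' : orderOf e' = r
          · exact hv (hV e' (Or.inr hr') v
              (fixpow ρV k (commutator_trivial_of_inverts ρV hiV e) e' he' v))
          · exact hb (hB e' hpr hr' b
              (fixpow ρB k (commutator_trivial_of_inverts ρB hiB e) e' he' b))
        · have hiA := inverts_of_fpf ρA hii (hA i hi2 (by rw [hi]; exact Ne.symm ht2))
          by_cases ht' : orderOf e' = t
          · by_cases hr2 : r = 2
            · have hiV := inverts_of_fpf ρV hii (hV i (Or.inr (hi.trans hr2.symm)))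
              exact hv (hV e' (Or.inl ht') v
                (fixpow ρV k (commutator_trivial_of_inverts ρV hiV e) e' he' v))
            · have hiB := inverts_of_fpf ρB hii (hB i hi2 (by rw [hi]; exact Ne.symm hr2))
              exact hb (hB e' hpr (by rw [ht']; exact htr) b
                (fixpow ρB k (commutator_trivial_of_inverts ρB hiB e) e' he' b))
          · exact ha (hA e' hpr ht' a
              (fixpow ρA k (commutator_trivial_of_inverts ρA hiA e) e' he' a))
      exact mul_inv_eq_iff_eq_mul.1 (mul_inv_eq_one.1 hk)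
    by_cases ht2 : t = 2
    · obtain ⟨h, hh⟩ := exists_prime_orderOf_dvd_card' (G := E) r hre
      refine hno (i * h) r hr htr.symm ?_
      rw [Commute.orderOf_mul_eq_mul_orderOf_of_coprime (hcen h).symm
        (by rw [hi, hh, ← ht2]; exact (Nat.coprime_primes ht hr).2 htr), hi, hh, ht2]
    · obtain ⟨g, hg⟩ := exists_prime_orderOf_dvd_card' (G := E) t hte
      refine hno (g * i) 2 Nat.prime_two (Ne.symm ht2) ?_
      rw [Commute.orderOf_mul_eq_mul_orderOf_of_coprime (hcen g)
        (by rw [hi, hg]; exact (Nat.coprime_primes ht Nat.prime_two).2 ht2), hi, hg]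
  -- all Sylow subgroups are cyclic
  haveI hZ : IsZGroup E := by
    refine ⟨fun l hl P => ?_⟩
    haveI := Fact.mk hl
    rcases subsingleton_or_nontrivial (P : Subgroup E) with hs | hn
    · exact isCyclic_of_subsingleton
    have hl2 : l ≠ 2 := by
      rintro rfl
      obtain ⟨k, hk⟩ := P.isPGroup'.exists_card_eq
      rcases k with _ | k
      · rw [pow_zero] at hk
        exact absurd hk (Finite.one_lt_card (α := (P : Subgroup E))).ne'
      · exact (Nat.not_even_iff_odd.2 hodd) (even_iff_two_dvd.2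
          ((hk ▸ dvd_pow_self 2 k.succ_ne_zero).trans (Subgroup.card_subgroup_dvd_card _)))
    have step : ∀ {W : Type u} [CommGroup W] [Finite W] [Nontrivial W] (ρ : E →* MulAut W),
        (∀ e : E, orderOf e = l → ∀ a, ρ e a = a → a = 1) → IsCyclic (P : Subgroup E) := by
      intro W _ _ _ ρ hρ
      refine CN.isCyclic_of_fpf P.isPGroup' hl2 (ρ.comp (P : Subgroup E).subtype) ?_
      intro x hx z hz
      obtain ⟨j, hj⟩ := IsPGroup.iff_orderOf.1 P.isPGroup' x
      rcases j with _ | j
      · exact absurd (orderOf_eq_one_iff.1 hj) hx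
      refine hρ ((x : E) ^ l ^ j) ?_ z ?_
      · rw [← SubmonoidClass.coe_pow, Subgroup.orderOf_coe, orderOf_pow_of_dvd (pow_ne_zero j hl.ne_zero)
          (by rw [hj]; exact pow_dvd_pow l (Nat.le_succ j)), hj, pow_succ,
          Nat.mul_div_cancel_left _ (pow_pos hl.pos j)]
      · have key : ∀ n : ℕ, ρ ((x : E) ^ n) z = z := by
          intro n
          induction n with
          | zero => simp
          | succ n ih => rw [pow_succ, map_mul, MulAut.mul_apply]; erw [hz]; exact ih
        exact key _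
    by_cases hlt : l = t
    · exact step ρB fun e he => hB e (he ▸ hl) (by rw [he, hlt]; exact htr)
    · exact step ρA fun e he => hA e (he ▸ hl) (by rw [he]; exact hlt)
  -- a subgroup of order `t r`
  obtain ⟨X, hX⟩ : ∃ X : Subgroup E, Nat.card X = t * r := by
    by_cases hrc : r ∣ Nat.card (commutator E)
    · exact exists_subgroup_card_mul ht hr htr _ (IsZGroup.isCyclic_commutator E) hrc hte
    by_cases htc : t ∣ Nat.card (commutator E)
    · obtain ⟨X, hX⟩ := exists_subgroup_card_mul hr ht htr.symm _ (IsZGroup.isCyclic_commutator E)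
        htc hre
      exact ⟨X, hX.trans (mul_comm r t)⟩
    exfalso
    have hq : ∀ l : ℕ, l.Prime → ¬ l ∣ Nat.card (commutator E) → l ∣ Nat.card E →
        l ∣ Nat.card (Abelianization E) := by
      intro l hl h1 h2
      rw [Subgroup.card_eq_card_quotient_mul_card_subgroup (commutator E)] at h2
      exact (hl.dvd_mul.1 h2).resolve_right h1
    obtain ⟨a, ha⟩ := (IsCyclic.exists_ofOrder_eq_natCard (α := Abelianization E))
    obtain ⟨e, rfl⟩ := QuotientGroup.mk'_surjective (commutator E) a
    have hd : t * r ∣ orderOf e := by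
      refine dvd_trans ?_ (orderOf_map_dvd (QuotientGroup.mk' (commutator E)) e)
      erw [ha]
      exact Nat.Coprime.mul_dvd_of_dvd_of_dvd ((Nat.coprime_primes ht hr).2 htr)
        (hq t ht htc hte) (hq r hr hrc hre)
    refine hno (e ^ (orderOf e / (t * r))) r hr htr.symm ?_
    exact orderOf_pow_orderOf_div (orderOf_pos e).ne' hd
  -- which must be cyclic
  have hcyc : IsCyclic X := by
    refine isCyclic_of_fpf_pq ht hr hX (ρV.comp X.subtype) ?_
    intro x hx z hz
    by_contra hz1
    have hne : orderOf (x : E) ≠ 1 := fun h => hx (Subtype.ext (orderOf_eq_one_iff.1 h))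
    have hp := Nat.minFac_prime hne
    set l := (orderOf (x : E)).minFac
    have hl : l = t ∨ l = r := by
      have h1 : l ∣ t * r := hX ▸ (Nat.minFac_dvd _).trans
        ((Subgroup.orderOf_coe x).symm ▸ orderOf_dvd_natCard x)
      rcases hp.dvd_mul.1 h1 with h | h
      · exact Or.inl ((Nat.prime_dvd_prime_iff_eq hp ht).1 h)
      · exact Or.inr ((Nat.prime_dvd_prime_iff_eq hp hr).1 h)
    have hord : orderOf ((x : E) ^ (orderOf (x : E) / l)) = l :=
      orderOf_pow_orderOf_div (orderOf_pos _).ne' (Nat.minFac_dvd _)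
    have key : ∀ n : ℕ, ρV ((x : E) ^ n) z = z := by
      intro n
      induction n with
      | zero => simp
      | succ n ih => rw [pow_succ, map_mul, MulAut.mul_apply]; erw [hz]; exact ih
    exact hz1 (hV _ (by rcases hl with h | h <;> rw [hord] <;> [exact Or.inl h; exact Or.inr h])
      z (key _))
  obtain ⟨a, ha⟩ := hcyc.exists_ofOrder_eq_natCard
  exact hno (a : E) r hr htr.symm (by rw [Subgroup.orderOf_coe, ha, hX])

end Cfsg.Agent.ClassTriple
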