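import Cfsg.Agent.Lib.ClassSizeTriple.Arith
import Cfsg.Agent.Lib.ClassSizeTriple.Fpf
import Mathlib.GroupTheory.Nilpotent
import Mathlib.GroupTheory.QuotientGroup.Defs

/-!
# If a centralizer is abelian and self-centralizing on its `m`-part, `m` is a prime power
-/

set_option autoImplicit false
set_option linter.style.haveILetI false

namespace Cfsg.Agent.ClassTriple

universe u

variable {G : Type u} [Group G]

/-- The `p`-part of a commutative subgroup. -/
def ppart (D : Subgroup G) (hD : ∀ a ∈ D, ∀ b ∈ D, a * b = b * a) (p : ℕ) : Subgroup G where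
  carrier := {a | a ∈ D ∧ IsPPow p a}
  one_mem' := ⟨D.one_mem, 0, one_pow _⟩
  mul_mem' := by
    rintro a b ⟨ha, i, hi⟩ ⟨hb, j, hj⟩
    refine ⟨D.mul_mem ha hb, i + j, ?_⟩
    rw [(show Commute a b from hD a ha b hb).mul_pow]
    rw [pow_add, pow_mul, hi, one_pow, one_mul, mul_comm, pow_mul, hj, one_pow]
  inv_mem' := by
    rintro a ⟨ha, i, hi⟩
    exact ⟨D.inv_mem ha, i, by rw [inv_pow, hi, inv_one]⟩

variable {D : Subgroup G} {hD : ∀ a ∈ D, ∀ b ∈ D, a * b = b * a}

lemma ppart_le (p : ℕ) : ppart D hD p ≤ D := fun _ h => h.1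

lemma ppart_isPGroup (p : ℕ) : IsPGroup p (ppart D hD p) := fun a => by
  obtain ⟨k, hk⟩ := a.2.2
  exact ⟨k, Subtype.ext hk⟩

lemma normalizer_le_normalizer_ppart (p : ℕ) :
    Subgroup.normalizer (D : Set G) ≤ Subgroup.normalizer ((ppart D hD p : Subgroup G) : Set G) := by
  intro y hy
  rw [Subgroup.mem_normalizer_iff] at hy ⊢
  intro x
  refine ⟨fun hx => ⟨(hy x).1 hx.1, hx.2.conj y⟩, fun hx => ⟨(hy x).2 hx.1, ?_⟩⟩
  have := hx.2.conj y⁻¹
  rwa [show y⁻¹ * (y * x * y⁻¹) * y⁻¹⁻¹ = x by group] at this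

variable [Finite G]

lemma fac_le_ppart {p : ℕ} (hp : p.Prime) :
    (Nat.card D).factorization p ≤ (Nat.card (ppart D hD p)).factorization p := by
  haveI := Fact.mk hp
  obtain ⟨Q⟩ := (inferInstance : Nonempty (Sylow p D))
  have hle : Q.1.map D.subtype ≤ ppart D hD p := by
    rintro _ ⟨a, ha, rfl⟩
    exact ⟨a.2, IsPPow.of_mem (Q.isPGroup'.map D.subtype) (Subgroup.mem_map_of_mem _ ha)⟩
  refine le_trans ?_ (fac_le_of_le p hle)
  rw [Subgroup.card_map_of_injective D.subtype_injective, Q.card_eq_multiplicity,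
    hp.factorization_pow, Finsupp.single_eq_same]

/-- Lift an element of prime order of a quotient to an element of prime power order. -/
lemma exists_lift {H : Type u} [Group H] [Finite H] {K : Subgroup H} [K.Normal] (y : H) {l : ℕ}
    (hl : l.Prime) (ho : orderOf (QuotientGroup.mk' K y) = l) :
    ∃ y' ∈ Subgroup.zpowers y, IsPPow l y' ∧ QuotientGroup.mk' K y' = QuotientGroup.mk' K y := by
  obtain ⟨i, r, hr, hord⟩ := Nat.exists_eq_pow_mul_and_not_dvd (orderOf_pos y).ne' l hl.ne_one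
  rcases i with _ | i
  · have hd : l ∣ orderOf y := ho ▸ orderOf_map_dvd (QuotientGroup.mk' K) y
    rw [hord, pow_zero, one_mul] at hd
    exact absurd hd hr
  obtain ⟨c, hc1, hc2⟩ := Nat.chineseRemainder
    (((hl.coprime_iff_not_dvd).2 hr).pow_left (i + 1)) 1 0
  refine ⟨y ^ c, Subgroup.pow_mem _ (Subgroup.mem_zpowers y) c, ⟨i + 1, ?_⟩, ?_⟩
  · rw [← pow_mul, ← orderOf_dvd_iff_pow_eq_one, hord, mul_comm c]
    exact Nat.mul_dvd_mul dvd_rfl (Nat.modEq_zero_iff_dvd.1 hc2)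
  · rw [map_pow]
    conv_rhs => rw [← pow_one (QuotientGroup.mk' K y)]
    rw [pow_eq_pow_iff_modEq, ho]
    exact Nat.ModEq.of_dvd (dvd_pow_self l i.succ_ne_zero) hc1

section action

variable (D) (A : Subgroup G) (hA : A ≤ D)
  (hN : Subgroup.normalizer (D : Set G) ≤ Subgroup.normalizer (A : Set G))
  (hcomm : ∀ a ∈ D, ∀ b ∈ D, a * b = b * a)

/-- The centre-free image of a subgroup. -/
abbrev bar (A : Subgroup G) : Subgroup (G ⧸ Subgroup.center G) :=
  A.map (QuotientGroup.mk' (Subgroup.center G))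

/-- The normal subgroup `D` inside its normalizer. -/
abbrev dIn : Subgroup (Subgroup.normalizer (D : Set G)) := D.subgroupOf _

include hN in
omit [Finite G] in
lemma bar_normalizer (y : Subgroup.normalizer (D : Set G)) :
    QuotientGroup.mk' (Subgroup.center G) (y : G) ∈
      Subgroup.normalizer ((bar A : Subgroup (G ⧸ Subgroup.center G)) : Set (G ⧸ Subgroup.center G)) :=
  Subgroup.le_normalizer_map _ (Subgroup.mem_map_of_mem _ (hN y.2))

/-- The action on the image of `A` modulo the centre. -/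
noncomputable def actHom : Subgroup.normalizer (D : Set G) →* MulAut ↥(bar A) :=
  (Subgroup.normalizerMonoidHom (bar A)).comp
    (((QuotientGroup.mk' (Subgroup.center G)).comp (Subgroup.normalizer (D : Set G)).subtype).codRestrict
      _ (bar_normalizer D A hN))

omit [Finite G] in
lemma actHom_apply (y : Subgroup.normalizer (D : Set G)) (a : ↥(bar A)) :
    ((actHom D A hN y a : ↥(bar A)) : G ⧸ Subgroup.center G) =
      QuotientGroup.mk' _ (y : G) * (a : G ⧸ Subgroup.center G) * (QuotientGroup.mk' _ (y : G))⁻¹ := rfl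

include hA hcomm in
omit [Finite G] in
lemma dIn_le_ker : dIn D ≤ (actHom D A hN).ker := by
  intro y hy
  rw [MonoidHom.mem_ker]
  ext ⟨_, a, ha, rfl⟩
  rw [MulAut.one_apply, actHom_apply, ← map_mul, ← map_inv, ← map_mul]
  congr 1
  rw [hcomm (y : G) hy a (hA ha), mul_inv_cancel_right]

/-- The action of the automizer. -/
noncomputable def actQ : Subgroup.normalizer (D : Set G) ⧸ dIn D →* MulAut ↥(bar A) :=
  QuotientGroup.lift _ (actHom D A hN) (dIn_le_ker D A hA hN hcomm)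

omit [Finite G] in
lemma fixed_spec (y : Subgroup.normalizer (D : Set G)) (a : ↥(bar A))
    (hfix : actQ D A hA hN hcomm (QuotientGroup.mk' (dIn D) y) a = a) (hne : a ≠ 1) :
    ∃ b ∈ A, b ∉ Subgroup.center G ∧
      (y : G) * b * (y : G)⁻¹ * b⁻¹ ∈ Subgroup.center G := by
  obtain ⟨b, hb, hba⟩ := a.2
  refine ⟨b, hb, fun hz => hne (Subtype.ext ?_), ?_⟩
  · rw [← hba]
    exact (QuotientGroup.eq_one_iff b).2 hz
  · have h1 := congrArg Subtype.val hfix
    change (actHom D A hN y a : ↥(bar A)).1 = a.1 at h1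
    rw [actHom_apply, ← hba, ← map_mul, ← map_inv, ← map_mul] at h1
    rw [← QuotientGroup.eq_one_iff]
    show QuotientGroup.mk' (Subgroup.center G) _ = 1
    rw [map_mul, h1, map_inv, mul_inv_cancel]

include hcomm hA in
omit [Finite G] in
lemma bar_commGroup : ∀ a b : ↥(bar A), a * b = b * a := by
  rintro ⟨_, a, ha, rfl⟩ ⟨_, b, hb, rfl⟩
  exact Subtype.ext (by simp only [Subgroup.coe_mul, ← map_mul, hcomm a (hA ha) b (hA hb)])

omit [Finite G] in
lemma bar_nontrivial {b : G} (hb : b ∈ A) (hnc : b ∉ Subgroup.center G) : Nontrivial ↥(bar A) :=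
  ⟨⟨⟨_, Subgroup.mem_map_of_mem _ hb⟩, 1, fun h => hnc
    ((QuotientGroup.eq_one_iff b).1 (congrArg Subtype.val h))⟩⟩

end action

variable {m n : ℕ}

/-- The two-prime lemma applied to an abelian centralizer. -/
theorem Triple.prime_eq (h : Triple G m n) {D : Subgroup G} {a0 : G} (hD0 : D = cen a0)
    (ha0 : a0 ∉ Subgroup.center G) (hcomm : ∀ a ∈ D, ∀ b ∈ D, a * b = b * a)
    (hcen : ∀ l : ℕ, l.Prime → l ∣ m → ∀ a ∈ D, IsPPow l a → a ∉ Subgroup.center G → cen a = D)
    {s : ℕ} {v : G} (hs : s.Prime) (hsm : ¬ s ∣ m) (hv : v ∈ D) (hvs : IsPPow s v)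
    (hvc : v ∉ Subgroup.center G) {t r : ℕ} (ht : t.Prime) (htm : t ∣ m) (hr : r.Prime)
    (hrm : r ∣ m) : t = r := by
  by_contra htr
  haveI := Fact.mk ht
  haveI := Fact.mk hr
  set N := Subgroup.normalizer (D : Set G)
  haveI : (dIn D).Normal := Subgroup.normal_subgroupOf_of_le_normalizer le_rfl
  have hfacD : ∀ l : ℕ, l.Prime → l ∣ m →
      ∃ a ∈ ppart D hcomm l, a ∉ Subgroup.center G := by
    intro l hl hlm
    obtain ⟨a, ha, hal, hac⟩ := h.exists_ppow_cen hl hlm ha0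
    exact ⟨a, ⟨hD0 ▸ ha, hal⟩, hac⟩
  -- a normalizing element outside `D`
  have hout : ∀ l : ℕ, l.Prime → l ∣ m → l ∣ Nat.card (N ⧸ dIn D) := by
    intro l hl hlm
    haveI := Fact.mk hl
    obtain ⟨R, hR⟩ := (ppart_isPGroup (D := D) (hD := hcomm) l).exists_le_sylow
    have hne : ppart D hcomm l ≠ (R : Subgroup G) := by
      intro he
      have h1 := fac_le_of_le l (ppart_le (D := D) (hD := hcomm) l)
      rw [he, R.card_eq_multiplicity, hl.factorization_pow, Finsupp.single_eq_same] at h1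
      have h2 := h.fac_sum hl hlm ha0
      rw [← hD0] at h2
      have h3 := h.fac_m_pos hl hlm
      omega
    haveI : Group.IsNilpotent (R : Subgroup G) := R.isPGroup'.isNilpotent
    set P' := (ppart D hcomm l).subgroupOf (R : Subgroup G)
    have hlt : P' < ⊤ := lt_top_iff_ne_top.2 fun e =>
      hne (le_antisymm hR (Subgroup.subgroupOf_eq_top.1 e))
    obtain ⟨y, hy, hyP⟩ := SetLike.exists_of_lt (Group.normalizerCondition_of_isNilpotent P' hlt)
    have hyn : (y : G) ∈ Subgroup.normalizer ((ppart D hcomm l : Subgroup G) : Set G) := by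
      rw [Subgroup.mem_normalizer_iff] at hy ⊢
      intro x
      constructor
      · intro hx
        exact Subgroup.mem_subgroupOf.1 ((hy ⟨x, hR hx⟩).1 (Subgroup.mem_subgroupOf.2 hx))
      · intro hx
        have hxR : x ∈ (R : Subgroup G) := by
          have := (R : Subgroup G).mul_mem ((R : Subgroup G).mul_mem
            ((R : Subgroup G).inv_mem y.2) (hR hx)) y.2
          rwa [show (y : G)⁻¹ * (y * x * (y : G)⁻¹) * y = x by group] at this
        exact Subgroup.mem_subgroupOf.1 ((hy ⟨x, hxR⟩).2 (Subgroup.mem_subgroupOf.2 hx))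
    obtain ⟨a, ha, hac⟩ := hfacD l hl hlm
    have ha' : (y : G) * a * (y : G)⁻¹ ∈ ppart D hcomm l := (Subgroup.mem_normalizer_iff.1 hyn a).1 ha
    have hyN : (y : G) ∈ N := by
      rw [Subgroup.mem_normalizer_iff]
      intro x
      conv_rhs => rw [← hcen l hl hlm _ ha'.1 ha'.2 (fun hz => hac (by
        have := (inferInstance : (Subgroup.center G).Normal).conj_mem _ hz (y : G)⁻¹
        rwa [show (y : G)⁻¹ * ((y : G) * a * (y : G)⁻¹) * (y : G)⁻¹⁻¹ = a by group] at this))]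
      rw [cen_conj, Subgroup.mem_map_equiv, MulAut.conj_symm_apply, hcen l hl hlm a ha.1 ha.2 hac,
        show (y : G)⁻¹ * (y * x * (y : G)⁻¹) * y = x by group]
    set e := QuotientGroup.mk' (dIn D) ⟨y, hyN⟩
    have hene : e ≠ 1 := fun he => hyP (Subgroup.mem_subgroupOf.2
      ⟨Subgroup.mem_subgroupOf.1 ((QuotientGroup.eq_one_iff (N := dIn D) (⟨(y : G), hyN⟩ : N)).1 he),
        IsPPow.of_mem R.isPGroup' y.2⟩)
    obtain ⟨k, hk⟩ := (IsPPow.of_mem R.isPGroup' y.2).orderOf_eq hl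
    have hd : orderOf e ∣ l ^ k := hk ▸ (Subgroup.orderOf_mk (y : G) hyN) ▸
      orderOf_map_dvd (QuotientGroup.mk' (dIn D)) ⟨(y : G), hyN⟩
    obtain ⟨i, -, hi⟩ := (Nat.dvd_prime_pow hl).1 hd
    rcases i with _ | i
    · exact absurd (orderOf_eq_one_iff.1 (hi.trans (pow_zero l))) hene
    · exact ((dvd_pow_self l i.succ_ne_zero).trans (dvd_of_eq hi.symm)).trans (orderOf_dvd_natCard _)
  have hte := hout t ht htm
  have hre := hout r hr hrm
  -- the three modules
  have hNA : ∀ l : ℕ, N ≤ Subgroup.normalizer ((ppart D hcomm l : Subgroup G) : Set G) :=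
    fun l => normalizer_le_normalizer_ppart l
  let _ : CommGroup ↥(bar (ppart D hcomm t)) :=
    { (inferInstance : Group ↥(bar (ppart D hcomm t))) with
      mul_comm := bar_commGroup D _ (ppart_le t) hcomm }
  let _ : CommGroup ↥(bar (ppart D hcomm r)) :=
    { (inferInstance : Group ↥(bar (ppart D hcomm r))) with
      mul_comm := bar_commGroup D _ (ppart_le r) hcomm }
  let _ : CommGroup ↥(bar (ppart D hcomm s)) :=
    { (inferInstance : Group ↥(bar (ppart D hcomm s))) with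
      mul_comm := bar_commGroup D _ (ppart_le s) hcomm }
  obtain ⟨at', hat, hatc⟩ := hfacD t ht htm
  obtain ⟨ar', har, harc⟩ := hfacD r hr hrm
  haveI := bar_nontrivial (ppart D hcomm t) hat hatc
  haveI := bar_nontrivial (ppart D hcomm r) har harc
  haveI := bar_nontrivial (ppart D hcomm s) (show v ∈ ppart D hcomm s from ⟨hv, hvs⟩) hvc
  have hfpf : ∀ l : ℕ, l.Prime → l ∣ m → ∀ e : N ⧸ dIn D, (orderOf e).Prime → orderOf e ≠ l →
      ∀ a, actQ D _ (ppart_le l) (hNA l) hcomm e a = a → a = 1 := by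
    intro l hl hlm e hep hel a hfix
    by_contra hne
    obtain ⟨y, rfl⟩ := QuotientGroup.mk'_surjective (dIn D) e
    obtain ⟨y', hy', hyp, hyy⟩ := exists_lift y hep rfl
    rw [← hyy] at hfix
    obtain ⟨b, hb, hbc, hbz⟩ := fixed_spec D _ (ppart_le l) (hNA l) hcomm y' a hfix hne
    obtain ⟨k, hk⟩ := hyp
    have h1 : (y' : G) ∈ cen b := mem_cen_of_coprime hbz
      (IsPPow.coprime hep hl hel ⟨k, congrArg Subtype.val hk⟩ hb.2)
    rw [hcen l hl hlm b hb.1 hb.2 hbc] at h1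
    exact hep.ne_one (orderOf_eq_one_iff.2 (hyy ▸ (QuotientGroup.eq_one_iff y').2
      (Subgroup.mem_subgroupOf.2 h1)))
  refine two_prime_false ht hr htr hte hre (actQ D _ (ppart_le t) (hNA t) hcomm)
    (actQ D _ (ppart_le r) (hNA r) hcomm) (actQ D _ (ppart_le s) (hNA s) hcomm)
    (hfpf t ht htm) (hfpf r hr hrm) ?_ ?_
  · intro e he a hfix
    by_contra hne
    obtain ⟨l, hl, hlm, hel⟩ : ∃ l, l.Prime ∧ l ∣ m ∧ orderOf e = l :=
      he.elim (fun h' => ⟨t, ht, htm, h'⟩) (fun h' => ⟨r, hr, hrm, h'⟩)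
    obtain ⟨y, rfl⟩ := QuotientGroup.mk'_surjective (dIn D) e
    obtain ⟨y', hy', hyp, hyy⟩ := exists_lift y hl hel
    rw [← hyy] at hfix
    obtain ⟨b, hb, hbc, hbz⟩ := fixed_spec D _ (ppart_le s) (hNA s) hcomm y' a hfix hne
    obtain ⟨k, hk⟩ := hyp
    have hyl : IsPPow l (y' : G) := ⟨k, congrArg Subtype.val hk⟩
    have hls : l ≠ s := fun hh => hsm (hh ▸ hlm)
    have h1 : (y' : G) ∈ cen b := mem_cen_of_coprime hbz (hyl.coprime hl hs hls hb.2)
    have hDb : D ≤ cen b := fun x hx => mem_cen.2 (hcomm b hb.1 x hx)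
    have h2 : (y' : G) ∈ ppart D hcomm l := by
      refine mem_of_normalizes hl (ppart_isPGroup l) ((ppart_le l).trans hDb) ?_ hyl h1 (hNA l y'.2)
      rw [h.fac_eq hl hlm hbc ha0, ← hD0]
      exact fac_le_ppart hl
    exact hl.ne_one (hel ▸ orderOf_eq_one_iff.2 (hyy ▸ (QuotientGroup.eq_one_iff y').2
      (Subgroup.mem_subgroupOf.2 h2.1)))
  · intro e l hl hlt he
    haveI := Fact.mk hl
    obtain ⟨y, rfl⟩ := QuotientGroup.mk'_surjective (dIn D) e
    have ho1 : orderOf (QuotientGroup.mk' (dIn D) (y ^ l)) = t := by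
      rw [map_pow, orderOf_pow_of_dvd hl.ne_zero (he ▸ dvd_mul_left l t), he,
        Nat.mul_div_cancel _ hl.pos]
    have ho2 : orderOf (QuotientGroup.mk' (dIn D) (y ^ t)) = l := by
      rw [map_pow, orderOf_pow_of_dvd ht.ne_zero (he ▸ dvd_mul_right t l), he,
        Nat.mul_div_cancel_left _ ht.pos]
    obtain ⟨y1, hy1, hy1p, hy1e⟩ := exists_lift _ ht ho1
    obtain ⟨y2, hy2, hy2p, hy2e⟩ := exists_lift _ hl ho2
    obtain ⟨k1, hk1⟩ := hy1p
    obtain ⟨k2, hk2⟩ := hy2p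
    have hy1t : IsPPow t (y1 : G) := ⟨k1, congrArg Subtype.val hk1⟩
    have hy2l : IsPPow l (y2 : G) := ⟨k2, congrArg Subtype.val hk2⟩
    have hz1 : y1 ∈ Subgroup.zpowers y :=
      Subgroup.zpowers_le.2 (Subgroup.pow_mem _ (Subgroup.mem_zpowers y) l) hy1
    have hz2 : y2 ∈ Subgroup.zpowers y :=
      Subgroup.zpowers_le.2 (Subgroup.pow_mem _ (Subgroup.mem_zpowers y) t) hy2
    obtain ⟨i1, hi1⟩ := Subgroup.mem_zpowers_iff.1 hz1
    obtain ⟨i2, hi2⟩ := Subgroup.mem_zpowers_iff.1 hz2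
    have hc12 : (y1 : G) * y2 = y2 * y1 := by
      rw [← hi1, ← hi2, SubgroupClass.coe_zpow, SubgroupClass.coe_zpow]
      exact ((Commute.refl (y : G)).zpow_zpow i1 i2).eq
    set P := ppart D hcomm t
    have hy1n : Subgroup.zpowers (y1 : G) ≤ Subgroup.normalizer (P : Set G) :=
      Subgroup.zpowers_le.2 (hNA t y1.2)
    obtain ⟨a, ha, hac, -, haz⟩ := exists_special ht
      (IsPGroup.to_sup_of_normal_right' (hy1t.isPGroup_zpowers ht) (ppart_isPGroup t) hy1n)
      le_sup_right (sup_le hy1n Subgroup.le_normalizer) (fun hle => hatc (hle hat))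
    have hz := haz (y1 : G) (Subgroup.mem_sup_left (Subgroup.mem_zpowers _))
    set z := (y1 : G) * a * (y1 : G)⁻¹ * a⁻¹ with hzdef
    set a' := (y2 : G) * a * (y2 : G)⁻¹ with ha'def
    have ha'P : a' ∈ P := (Subgroup.mem_normalizer_iff.1 (hNA t y2.2) a).1 ha
    have hzc := Subgroup.mem_center_iff.1 hz
    have hy1a : (y1 : G) * a * (y1 : G)⁻¹ = z * a := by rw [hzdef, inv_mul_cancel_right]
    have h1 : (y1 : G) * a' * (y1 : G)⁻¹ = z * a' := by
      calc (y1 : G) * a' * (y1 : G)⁻¹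
          = ((y1 : G) * y2) * a * ((y1 : G) * y2)⁻¹ := by rw [ha'def]; group
        _ = ((y2 : G) * y1) * a * ((y2 : G) * y1)⁻¹ := by rw [hc12]
        _ = (y2 : G) * ((y1 : G) * a * (y1 : G)⁻¹) * (y2 : G)⁻¹ := by group
        _ = (y2 : G) * z * a * (y2 : G)⁻¹ := by rw [hy1a]; group
        _ = z * a' := by rw [hzc (y2 : G), ha'def]; group
    have h2 : (y1 : G) * (a' * a⁻¹) * (y1 : G)⁻¹ = a' * a⁻¹ := by
      calc (y1 : G) * (a' * a⁻¹) * (y1 : G)⁻¹
          = ((y1 : G) * a' * (y1 : G)⁻¹) * ((y1 : G) * a * (y1 : G)⁻¹)⁻¹ := by group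
        _ = z * a' * (z * a)⁻¹ := by rw [h1, hy1a]
        _ = z * (a' * a⁻¹) * z⁻¹ := by group
        _ = (a' * a⁻¹) * z * z⁻¹ := by rw [hzc]
        _ = a' * a⁻¹ := mul_inv_cancel_right _ _
    have hne1 : ∀ {w : N} {k : ℕ}, k ≠ 1 → orderOf (QuotientGroup.mk' (dIn D) w) = k →
        (w : G) ∉ D := by
      intro w k hk hw hwD
      exact hk (hw ▸ orderOf_eq_one_iff.2 ((QuotientGroup.eq_one_iff w).2
        (Subgroup.mem_subgroupOf.2 hwD)))
    have hcz : a' * a⁻¹ ∈ Subgroup.center G := by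
      by_contra hcc
      refine hne1 ht.ne_one (hy1e ▸ ho1) (hcen t ht htm _ (P.mul_mem ha'P (P.inv_mem ha)).1
        (P.mul_mem ha'P (P.inv_mem ha)).2 hcc ▸ mem_cen.2 ?_)
      exact (mul_inv_eq_iff_eq_mul.1 h2).symm
    have h3 : (y2 : G) ∈ cen a := mem_cen_of_coprime hcz (hy2l.coprime hl ht hlt ha.2)
    rw [hcen t ht htm a ha.1 ha.2 hac] at h3
    exact hne1 hl.ne_one (hy2e ▸ ho2) h3

theorem Triple.eq_pow (h : Triple G m n) {D : Subgroup G} {a0 : G} (hD0 : D = cen a0)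
    (ha0 : a0 ∉ Subgroup.center G) (hcomm : ∀ a ∈ D, ∀ b ∈ D, a * b = b * a)
    (hcen : ∀ l : ℕ, l.Prime → l ∣ m → ∀ a ∈ D, IsPPow l a → a ∉ Subgroup.center G → cen a = D)
    {s : ℕ} {v : G} (hs : s.Prime) (hsm : ¬ s ∣ m) (hv : v ∈ D) (hvs : IsPPow s v)
    (hvc : v ∉ Subgroup.center G) {t : ℕ} (ht : t.Prime) (htm : t ∣ m) :
    m = t ^ m.factorization t :=
  Nat.eq_pow_of_factorization_eq_single h.m_ne_zero (by
    ext r
    by_cases hrt : r = t
    · subst hrt; rw [Finsupp.single_eq_same]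
    · rw [Finsupp.single_eq_of_ne hrt]
      by_contra hc
      have hr : r ∈ m.primeFactors := Nat.support_factorization m ▸ Finsupp.mem_support_iff.2 hc
      exact hrt (h.prime_eq hD0 ha0 hcomm hcen hs hsm hv hvs hvc
        (Nat.prime_of_mem_primeFactors hr) (Nat.dvd_of_mem_primeFactors hr) ht htm))

end Cfsg.Agent.ClassTriple
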