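import Cfsg.Agent.Lib.ClassSizeTriple.One

/-!
# The structure when the centralizer of an element of class size `m` is abelian
-/

set_option autoImplicit false
set_option linter.style.haveILetI false

namespace Cfsg.Agent.ClassTriple

universe u

variable {G : Type u} [Group G] [Finite G] {m n : ℕ}

/-- An abelian normal subgroup of index `m` containing all elements of class size `m`, with the
arithmetical data needed for the structure. -/
structure Shape (G : Type u) [Group G] (m n : ℕ) : Prop where
  ex : ∃ (t b : ℕ) (C : Subgroup G), t.Prime ∧ m = t ^ b ∧ C.Normal ∧ C.index = m ∧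
    (∀ a ∈ C, ∀ c ∈ C, a * c = c * a) ∧
    (∀ g : G, g ∈ C ↔ (sz g = 1 ∨ sz g = m)) ∧
    (∀ a ∈ C, a ∉ Subgroup.center G → cen a = C)

namespace Triple

variable (h : Triple G m n) {t : ℕ} {x : G}
include h

theorem shape (ht : t.Prime) (htm : t ∣ m) (hx : IsPPow t x) (hxm : sz x = m) : Shape G m n := by
  haveI := Fact.mk ht
  have hab := h.cen_comm ht htm hx hxm
  have hxc := h.not_center_of_m hxm
  set C := cen x with hC
  have hCidx : C.index = m := hxm
  have hcenC : ∀ a ∈ C, a ∉ Subgroup.center G → cen a = C := fun a ha hac =>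
    ((h.eq_of_m_le hxm (fun y hy => mem_cen.2 (hab a ha y hy)) hac).1).symm
  obtain ⟨s, hs, hsn, hsm⟩ := h.exists_prime_dvd_n
  haveI := Fact.mk hs
  have hst : s ≠ t := fun e => hsm (e ▸ htm)
  obtain ⟨S, hS⟩ := exists_sylow_le (p := s) (H := C) (by rw [hCidx]; exact hsm)
  obtain ⟨g0, hg0⟩ := h.ex_mn
  obtain ⟨v, hvS, hvc⟩ := SetLike.not_le_iff_exists.1
    (show ¬ (S : Subgroup G) ≤ Subgroup.center G from fun hle =>
      not_dvd_sz S (hle.trans (center_le_cen g0)) (by rw [hg0]; exact dvd_mul_of_dvd_right hsn m))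
  have hvs : IsPPow s v := IsPPow.of_mem S.isPGroup' hvS
  have hm := h.eq_pow (D := C) hC hxc hab (fun l _ _ a ha _ hac => hcenC a ha hac) hs hsm (hS hvS)
    hvs hvc ht htm
  -- a Sylow subgroup above the `t`-part
  obtain ⟨T, hT⟩ := (ppart_isPGroup (D := C) (hD := hab) t).exists_le_sylow
  have hrel : C.relIndex (T : Subgroup G) = m := by
    have h1 : Nat.card (C ⊓ (T : Subgroup G) : Subgroup G) * C.relIndex (T : Subgroup G) =
        Nat.card (T : Subgroup G) := by
      rw [← Subgroup.inf_relIndex_right, ← Subgroup.relIndex_bot_left (C ⊓ (T : Subgroup G)),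
        Subgroup.relIndex_mul_relIndex _ _ _ bot_le inf_le_right, Subgroup.relIndex_bot_left]
    have hpg : IsPGroup t (C ⊓ (T : Subgroup G) : Subgroup G) := T.isPGroup'.to_le inf_le_right
    have h2 : (Nat.card (C ⊓ (T : Subgroup G) : Subgroup G)).factorization t =
        (Nat.card C).factorization t :=
      le_antisymm (fac_le_of_le t inf_le_left)
        ((fac_le_ppart (hD := hab) ht).trans (fac_le_of_le t (le_inf (ppart_le t) hT)))
    have h3 := h.fac_sum ht htm hxc
    rw [card_eq_pow_fac ht hpg, h2, T.card_eq_multiplicity, ← h3, pow_add, ← hm] at h1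
    exact Nat.eq_of_mul_eq_mul_left (pow_pos ht.pos _) h1
  have hGCT : ∀ y : G, ∃ τ ∈ (T : Subgroup G), τ⁻¹ * y ∈ C := by
    intro y
    let f : (T : Subgroup G) ⧸ C.subgroupOf (T : Subgroup G) → G ⧸ C :=
      Quotient.map' Subtype.val fun a b hab' => by
        rw [QuotientGroup.leftRel_apply] at hab' ⊢
        exact Subgroup.mem_subgroupOf.1 hab'
    have hf : Function.Injective f := by
      intro a b
      refine Quotient.inductionOn₂' a b fun a b hab' => ?_
      exact Quotient.sound' (QuotientGroup.leftRel_apply.2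
        (Subgroup.mem_subgroupOf.2 (QuotientGroup.eq.1 hab')))
    haveI : Finite ((T : Subgroup G) ⧸ C.subgroupOf (T : Subgroup G)) := inferInstance
    have hcard : Nat.card ((T : Subgroup G) ⧸ C.subgroupOf (T : Subgroup G)) = Nat.card (G ⧸ C) := by
      rw [← Subgroup.index_eq_card, ← Subgroup.index_eq_card, hCidx]; exact hrel
    obtain ⟨q, hq⟩ := ((Nat.bijective_iff_injective_and_card f).2 ⟨hf, hcard⟩).2 (QuotientGroup.mk y)
    induction q using Quotient.inductionOn' with
    | _ τ => exact ⟨τ, τ.2, QuotientGroup.eq.1 hq⟩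
  have hconjC : ∀ y, ∃ τ ∈ (T : Subgroup G), C.map (MulAut.conj y).toMonoidHom =
      C.map (MulAut.conj τ).toMonoidHom := by
    intro y
    obtain ⟨τ, hτ, hc⟩ := hGCT y
    refine ⟨τ, hτ, ?_⟩
    rw [hC, ← cen_conj, ← cen_conj]
    congr 1
    have h1 := mem_cen.1 hc
    calc y * x * y⁻¹ = τ * ((τ⁻¹ * y) * x) * (τ⁻¹ * y)⁻¹ * τ⁻¹ := by group
      _ = τ * (x * (τ⁻¹ * y)) * (τ⁻¹ * y)⁻¹ * τ⁻¹ := by rw [h1]
      _ = τ * x * τ⁻¹ := by group
  obtain ⟨u, huT, huc, -, hu⟩ := exists_special ht T.isPGroup' le_rfl Subgroup.le_normalizer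
    (h.sylow_not_le_center htm T)
  have hut : IsPPow t u := IsPPow.of_mem T.isPGroup' huT
  obtain ⟨a0, ha0, ha0t, ha0c⟩ := h.exists_ppow_cen ht htm hxc
  have ha0T : a0 ∈ (T : Subgroup G) := hT ⟨ha0, ha0t⟩
  -- `u` normalizes every conjugate of `C`
  have huall : ∀ y, u ∈ Subgroup.normalizer
      ((C.map (MulAut.conj y).toMonoidHom : Subgroup G) : Set G) := by
    intro y
    obtain ⟨τ, hτ, hy⟩ := hconjC y
    rw [hy, ← hcenC a0 ha0 ha0c, ← cen_conj]
    refine mem_normalizer_cen ?_
    have h1 := hu (τ * a0 * τ⁻¹)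
      ((T : Subgroup G).mul_mem ((T : Subgroup G).mul_mem hτ ha0T) ((T : Subgroup G).inv_mem hτ))
    have h2 := (Subgroup.center G).inv_mem h1
    rwa [show (τ * a0 * τ⁻¹ * u * (τ * a0 * τ⁻¹)⁻¹ * u⁻¹)⁻¹ =
      u * (τ * a0 * τ⁻¹) * u⁻¹ * (τ * a0 * τ⁻¹)⁻¹ by group] at h2
  have huN : u ∈ Subgroup.normalizer (C : Set G) := by
    have hid : C.map (MulAut.conj (1 : G)).toMonoidHom = C := by
      ext g; simp [Subgroup.mem_map_equiv]
    simpa only [hid] using huall 1
  have hTN : (T : Subgroup G) ≤ Subgroup.normalizer (C : Set G) := by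
    by_cases huC : u ∈ C
    · intro τ hτ
      rw [← hcenC u huC huc]
      exact mem_normalizer_cen (hu τ hτ)
    · -- `v` lies in every conjugate of `C`
      set K := ppart C hab s
      have hKN : u ∈ Subgroup.normalizer (K : Set G) := normalizer_le_normalizer_ppart s huN
      have hfix : ∀ k ∈ K, u * k * u⁻¹ * k⁻¹ ∈ Subgroup.center G → k ∈ Subgroup.center G := by
        intro k hk hz
        by_contra hkc
        exact huC (hcenC k hk.1 hkc ▸ mem_cen_of_coprime hz (hut.coprime ht hs hst.symm hk.2))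
      -- the map `k ↦ u k u⁻¹ k⁻¹` is onto modulo the centre
      set ψ : ↥(bar K) → ↥(bar K) := fun a =>
        actHom C K (normalizer_le_normalizer_ppart s) ⟨u, huN⟩ a * a⁻¹
      have hψ : Function.Injective ψ := by
        intro a b hab'
        have hc := bar_commGroup C K (ppart_le s) hab
        have e : actHom C K (normalizer_le_normalizer_ppart s) ⟨u, huN⟩ (b⁻¹ * a) = b⁻¹ * a := by
          rw [map_mul, map_inv]
          have := congrArg (fun z => (actHom C K (normalizer_le_normalizer_ppart s) ⟨u, huN⟩ b)⁻¹ *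
            z * a) hab'
          simp only [ψ, ← mul_assoc, inv_mul_cancel, one_mul, inv_mul_cancel_right] at this
          exact this
        by_contra hne
        obtain ⟨c, hc', hca⟩ := (b⁻¹ * a).2
        have h1 := congrArg Subtype.val e
        rw [actHom_apply, ← hca, ← map_mul, ← map_inv, ← map_mul] at h1
        have hz : u * c * u⁻¹ * c⁻¹ ∈ Subgroup.center G := by
          rw [← QuotientGroup.eq_one_iff]
          show QuotientGroup.mk' (Subgroup.center G) _ = 1
          rw [map_mul, h1, map_inv, mul_inv_cancel]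
        refine hne (inv_mul_eq_one.1 (Subtype.ext ?_)).symm
        rw [← hca]
        exact (QuotientGroup.eq_one_iff c).2 (hfix c hc' hz)
      obtain ⟨a, ha⟩ := (Finite.injective_iff_surjective.1 hψ)
        ⟨_, Subgroup.mem_map_of_mem _ (show v ∈ K from ⟨hS hvS, hvs⟩)⟩
      obtain ⟨k, hk, hka⟩ := a.2
      have hvz : (u * k * u⁻¹ * k⁻¹)⁻¹ * v ∈ Subgroup.center G := by
        rw [← QuotientGroup.eq_one_iff]
        show QuotientGroup.mk' (Subgroup.center G) _ = 1
        have h1 := congrArg Subtype.val ha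
        simp only [ψ, Subgroup.coe_mul, Subgroup.coe_inv] at h1
        rw [actHom_apply, ← hka] at h1
        rw [map_mul, map_inv, map_mul, map_mul, map_mul, map_inv, map_inv, h1, inv_mul_cancel]
      have hvall : ∀ y, v ∈ C.map (MulAut.conj y).toMonoidHom := by
        intro y
        set C' := C.map (MulAut.conj y).toMonoidHom with hC'
        have hC'cen : C' = cen (y * x * y⁻¹) := (cen_conj y x).symm
        have hab' : ∀ a ∈ C', ∀ b ∈ C', a * b = b * a := by
          rintro _ ⟨a, ha, rfl⟩ _ ⟨b, hb, rfl⟩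
          simp only [← map_mul, hab a ha b hb]
        have hvn : v ∈ Subgroup.normalizer (C' : Set G) := by
          have h1 : k * u⁻¹ * k⁻¹ ∈ Subgroup.normalizer (C' : Set G) := by
            have h2 := Subgroup.le_normalizer_map (MulAut.conj k).toMonoidHom
              (Subgroup.mem_map_of_mem _ ((Subgroup.normalizer
                ((C.map (MulAut.conj (k⁻¹ * y)).toMonoidHom : Subgroup G) : Set G)).inv_mem
                  (huall (k⁻¹ * y))))
            rw [Subgroup.map_map] at h2
            have e : (MulAut.conj k).toMonoidHom.comp (MulAut.conj (k⁻¹ * y)).toMonoidHom =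
                (MulAut.conj y).toMonoidHom := by
              ext g; simp [mul_assoc]
            rw [e] at h2
            exact h2
          have h3 : u * (k * u⁻¹ * k⁻¹) * ((u * k * u⁻¹ * k⁻¹)⁻¹ * v) ∈
              Subgroup.normalizer (C' : Set G) :=
            mul_mem (mul_mem (huall y) h1) (Subgroup.le_normalizer
              (hC'cen ▸ center_le_cen _ hvz))
          rwa [show u * (k * u⁻¹ * k⁻¹) * ((u * k * u⁻¹ * k⁻¹)⁻¹ * v) = v by group] at h3
        have h4 : v ∈ ppart C' hab' s := by
          refine mem_of_normalizes hs (ppart_isPGroup s) le_top ?_ hvs (Subgroup.mem_top v)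
            (normalizer_le_normalizer_ppart s hvn)
          have hidx' : C'.index = m :=
            (congrArg Subgroup.index hC'cen).trans ((sz_conj y x).trans hxm)
          rw [Subgroup.card_top, ← fac_index s C', hidx',
            Nat.factorization_eq_zero_of_not_dvd hsm, add_zero]
          exact fac_le_ppart hs
        exact h4.1
      intro τ _
      refine Subgroup.mem_normalizer_iff.2 fun g => ?_
      have e1 : cen v = cen (τ * x * τ⁻¹) := by
        have hle : cen (τ * x * τ⁻¹) ≤ cen v := by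
          intro g hg
          rw [cen_conj] at hg
          obtain ⟨g', hg', rfl⟩ := hg
          obtain ⟨v', hv', hvv⟩ := hvall τ
          refine mem_cen.2 ?_
          rw [← hvv]
          simp only [← map_mul, hab v' hv' g' hg']
        exact ((h.eq_of_m_le ((sz_conj τ x).trans hxm) hle hvc).1).symm
      have e2 : C = cen (τ * x * τ⁻¹) := (hcenC v (hS hvS) hvc).symm.trans e1
      conv_rhs => rw [e2, cen_conj, Subgroup.mem_map_equiv, MulAut.conj_symm_apply,
        show τ⁻¹ * (τ * g * τ⁻¹) * τ = g by group]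
  have hCn : C.Normal := by
    rw [← Subgroup.normalizer_eq_top_iff, eq_top_iff]
    intro y _
    obtain ⟨τ, hτ, hc⟩ := hGCT y
    simpa using mul_mem (hTN hτ) (Subgroup.le_normalizer hc)
  refine ⟨t, _, C, ht, hm, hCn, hCidx, hab, fun g => ⟨fun hg => ?_, fun hg => ?_⟩, hcenC⟩
  · by_cases hgc : g ∈ Subgroup.center G
    · exact Or.inl (sz_eq_one_iff.2 hgc)
    · right
      show (cen g).index = m
      rw [hcenC g hg hgc, hCidx]
  · by_contra hgC
    rcases hg with hg | hg
    · exact hgC (center_le_cen x (sz_eq_one_iff.1 hg))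
    obtain ⟨S', hS'⟩ := exists_sylow_le (p := s) (H := cen g) (by
      rw [show (cen g).index = m from hg]; exact hsm)
    haveI := hCn
    obtain ⟨y, hy⟩ := MulAction.exists_smul_eq G S S'
    have hv' : y * v * y⁻¹ ∈ (S' : Subgroup G) := by
      rw [← hy, Sylow.coe_subgroup_smul]
      exact Subgroup.smul_mem_pointwise_smul v (MulAut.conj y) _ hvS
    have hv'C : y * v * y⁻¹ ∈ C := hCn.conj_mem v (hS hvS) y
    refine hgC (hcenC _ hv'C (fun hz => hvc ?_) ▸ mem_cen_symm (hS' hv'))
    have h2 := (inferInstance : (Subgroup.center G).Normal).conj_mem _ hz y⁻¹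
    rwa [show y⁻¹ * (y * v * y⁻¹) * y⁻¹⁻¹ = v by group] at h2

end Triple

end Cfsg.Agent.ClassTriple
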