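import Cfsg.Agent.Lib.ClassSizeTriple.Basic

/-!
# Consequences of the class-size hypothesis
-/

set_option autoImplicit false
set_option linter.style.haveILetI false

namespace Cfsg.Agent.ClassTriple

universe u

variable {G : Type u} [Group G] [Finite G] {m n : ℕ}

namespace Triple

variable (h : Triple G m n)
include h

omit [Finite G] in
lemma m_ne_zero : m ≠ 0 := by have := h.one_lt_m; omega

omit [Finite G] in
lemma n_ne_zero : n ≠ 0 := by have := h.one_lt_n; omega

omit [Finite G] in
lemma m_lt_mn : m < m * n := lt_mul_of_one_lt_right (by have := h.one_lt_m; omega) h.one_lt_n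

omit [Finite G] in
lemma sz_of_not_center {g : G} (hg : g ∉ Subgroup.center G) : sz g = m ∨ sz g = m * n :=
  (h.sizes g).resolve_left (mt sz_eq_one_iff.1 hg)

omit [Finite G] in
lemma not_center_of_m {g : G} (hg : sz g = m) : g ∉ Subgroup.center G := fun hz => by
  have := sz_eq_one_iff.2 hz
  have := h.one_lt_m
  omega

omit [Finite G] in
lemma not_center_of_mn {g : G} (hg : sz g = m * n) : g ∉ Subgroup.center G := fun hz => by
  have := sz_eq_one_iff.2 hz
  have := h.one_lt_m
  have := h.m_lt_mn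
  omega

omit [Finite G] in
lemma dvd_sz {g : G} (hg : g ∉ Subgroup.center G) : m ∣ sz g := by
  rcases h.sz_of_not_center hg with e | e <;> rw [e]
  exact dvd_mul_right m n

/-- A centralizer of index `m` is maximal. -/
lemma eq_of_m_le {g a : G} (hg : sz g = m) (hle : cen g ≤ cen a) (ha : a ∉ Subgroup.center G) :
    cen g = cen a ∧ sz a = m := by
  have hd := sz_dvd hle
  rw [hg] at hd
  have hm : sz a = m := Nat.dvd_antisymm hd (h.dvd_sz ha)
  exact ⟨eq_of_le_of_index hle (hg.trans hm.symm), hm⟩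

/-- A centralizer of index `m n` is minimal. -/
lemma eq_of_le_mn {g a : G} (hg : g ∉ Subgroup.center G) (hle : cen g ≤ cen a) (ha : sz a = m * n) :
    cen g = cen a ∧ sz g = m * n := by
  have hd := sz_dvd hle
  rw [ha] at hd
  rcases h.sz_of_not_center hg with e | e
  · rw [e] at hd
    exact absurd (Nat.le_of_dvd (Nat.pos_of_ne_zero h.m_ne_zero) hd) (not_le.2 h.m_lt_mn)
  · exact ⟨eq_of_le_of_index hle (e.trans ha.symm), e⟩

omit [Finite G] in
lemma not_dvd_n {t : ℕ} (ht : t.Prime) (htm : t ∣ m) : ¬ t ∣ n := fun hd =>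
  ht.not_dvd_one (h.cop ▸ Nat.dvd_gcd htm hd)

lemma fac_sum {t : ℕ} (ht : t.Prime) (htm : t ∣ m) {g : G} (hg : g ∉ Subgroup.center G) :
    (Nat.card (cen g)).factorization t + m.factorization t = (Nat.card G).factorization t := by
  rw [← fac_index t (cen g)]
  show _ = _ + (sz g).factorization t
  rcases h.sz_of_not_center hg with e | e <;> rw [e]
  rw [Nat.factorization_mul h.m_ne_zero h.n_ne_zero, Finsupp.add_apply,
    Nat.factorization_eq_zero_of_not_dvd (h.not_dvd_n ht htm), add_zero]

lemma fac_eq {t : ℕ} (ht : t.Prime) (htm : t ∣ m) {g g' : G} (hg : g ∉ Subgroup.center G)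
    (hg' : g' ∉ Subgroup.center G) :
    (Nat.card (cen g)).factorization t = (Nat.card (cen g')).factorization t := by
  have := h.fac_sum ht htm hg
  have := h.fac_sum ht htm hg'
  omega

omit [Finite G] in
lemma fac_m_pos {t : ℕ} (ht : t.Prime) (htm : t ∣ m) : 0 < m.factorization t :=
  ht.factorization_pos_of_dvd h.m_ne_zero htm

/-- Only central elements centralize a Sylow subgroup for a prime dividing `m`. -/
lemma center_of_sylow_le {t : ℕ} [Fact t.Prime] (htm : t ∣ m) (T : Sylow t G) {z : G}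
    (hz : (T : Subgroup G) ≤ cen z) : z ∈ Subgroup.center G := by
  by_contra hc
  exact not_dvd_sz T hz (htm.trans (h.dvd_sz hc))

lemma sylow_not_le_center {t : ℕ} [Fact t.Prime] (htm : t ∣ m) (T : Sylow t G) :
    ¬ (T : Subgroup G) ≤ Subgroup.center G := by
  intro hle
  obtain ⟨g, hg⟩ := h.ex_m
  exact h.not_center_of_m hg (h.center_of_sylow_le htm T (hle.trans (center_le_cen g)))

lemma fac_center_lt_cen {t : ℕ} (ht : t.Prime) (htm : t ∣ m) {g : G} (hg : g ∉ Subgroup.center G) :
    (Nat.card (Subgroup.center G)).factorization t < (Nat.card (cen g)).factorization t := by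
  haveI := Fact.mk ht
  obtain ⟨T⟩ := (inferInstance : Nonempty (Sylow t G))
  obtain ⟨b, hbT, hb⟩ := SetLike.not_le_iff_exists.1 (h.sylow_not_le_center htm T)
  rw [h.fac_eq ht htm hg hb]
  exact fac_center_lt ht (center_le_cen b) (mem_cen_self b) (IsPPow.of_mem T.isPGroup' hbT) hb

/-- Every non-central element centralizes a non-central `t`-element. -/
lemma exists_ppow_cen {t : ℕ} (ht : t.Prime) (htm : t ∣ m) {g : G} (hg : g ∉ Subgroup.center G) :
    ∃ a ∈ cen g, IsPPow t a ∧ a ∉ Subgroup.center G :=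
  exists_ppow_not_center ht (h.fac_center_lt_cen ht htm hg)

/-- An element of class size `m` of prime power order. -/
lemma exists_primary_m : ∃ (q : ℕ) (x : G), q.Prime ∧ IsPPow q x ∧ sz x = m := by
  obtain ⟨g, hg⟩ := h.ex_m
  by_contra hc
  refine h.not_center_of_m hg (mem_of_primary fun p hp a ha hpa => ?_)
  by_contra hna
  exact hc ⟨p, a, hp, hpa, (h.eq_of_m_le hg (cen_le_of_mem_zpowers ha) hna).2⟩

omit [Finite G] in
lemma mn_not_eq_m : m * n ≠ m := h.m_lt_mn.ne'

lemma exists_prime_dvd_n : ∃ s : ℕ, s.Prime ∧ s ∣ n ∧ ¬ s ∣ m :=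
  ⟨n.minFac, Nat.minFac_prime h.one_lt_n.ne', Nat.minFac_dvd n,
    fun hd => h.not_dvd_n (Nat.minFac_prime h.one_lt_n.ne') hd (Nat.minFac_dvd n)⟩

end Triple

end Cfsg.Agent.ClassTriple
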