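import Cfsg.Agent.Lib.FGStruct.Counting
import Cfsg.Agent.Lib.Solvable.Structure
import Cfsg.Agent.Lib.Solvable.Basic
import Mathlib.Data.Nat.ChineseRemainder
import Mathlib.GroupTheory.PGroup
import Mathlib.Algebra.Group.Subgroup.Finite

/-!
# Groups with class sizes `1`, `m`, `m n`: general lemmas on centralizers
-/

set_option autoImplicit false
set_option linter.style.haveILetI false

namespace Cfsg.Agent.ClassTriple

universe u

variable {G : Type u} [Group G]

/-- The centralizer of one element. -/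
abbrev cen (g : G) : Subgroup G := Subgroup.centralizer ({g} : Set G)

/-- The class size of one element. -/
noncomputable abbrev sz (g : G) : ℕ := (cen g).index

/-- The standing hypothesis. -/
structure Triple (G : Type u) [Group G] (m n : ℕ) : Prop where
  one_lt_m : 1 < m
  one_lt_n : 1 < n
  cop : m.Coprime n
  sizes : ∀ g : G, sz g = 1 ∨ sz g = m ∨ sz g = m * n
  ex_m : ∃ g : G, sz g = m
  ex_mn : ∃ g : G, sz g = m * n

/-- `a` has order a power of `p`. -/
def IsPPow (p : ℕ) (a : G) : Prop := ∃ k : ℕ, a ^ p ^ k = 1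

lemma mem_cen {g y : G} : y ∈ cen g ↔ g * y = y * g := Counting.mem_centralizer_singleton

lemma mem_cen_self (g : G) : g ∈ cen g := mem_cen.2 rfl

lemma mem_cen_symm {g y : G} (h : y ∈ cen g) : g ∈ cen y := mem_cen.2 (mem_cen.1 h).symm

lemma mem_cen_of_mem_center {z : G} (hz : z ∈ Subgroup.center G) (g : G) : z ∈ cen g :=
  mem_cen.2 (Subgroup.mem_center_iff.1 hz g)

lemma center_le_cen (g : G) : Subgroup.center G ≤ cen g := fun _ hz => mem_cen_of_mem_center hz g

lemma cen_eq_top_iff {g : G} : cen g = ⊤ ↔ g ∈ Subgroup.center G := by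
  constructor
  · intro h
    rw [Subgroup.mem_center_iff]
    intro y
    exact (mem_cen.1 (h ▸ Subgroup.mem_top y : y ∈ cen g)).symm
  · intro h
    rw [eq_top_iff]
    exact fun y _ => mem_cen.2 (Subgroup.mem_center_iff.1 h y).symm

lemma sz_eq_one_iff {g : G} : sz g = 1 ↔ g ∈ Subgroup.center G := by
  rw [← cen_eq_top_iff]; exact Subgroup.index_eq_one

lemma sz_dvd {g a : G} (h : cen g ≤ cen a) : sz a ∣ sz g := Subgroup.index_dvd_of_le h

lemma eq_of_le_of_index [Finite G] {H K : Subgroup G} (h : H ≤ K) (hi : H.index = K.index) :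
    H = K := by
  rcases h.lt_or_eq with hlt | he
  · exact absurd hi (Subgroup.index_strictAnti hlt).ne'
  · exact he

lemma cen_le_cen_pow (g : G) (k : ℕ) : cen g ≤ cen (g ^ k) := fun y hy =>
  mem_cen.2 (Commute.pow_left (show Commute g y from mem_cen.1 hy) k)

lemma cen_le_of_mem_zpowers {g a : G} (ha : a ∈ Subgroup.zpowers g) : cen g ≤ cen a := by
  obtain ⟨k, rfl⟩ := Subgroup.mem_zpowers_iff.1 ha
  exact fun y hy => mem_cen.2 (Commute.zpow_left (show Commute g y from mem_cen.1 hy) k)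

lemma cen_conj (y g : G) : cen (y * g * y⁻¹) = (cen g).map (MulAut.conj y).toMonoidHom := by
  ext x
  simp only [Subgroup.mem_map_equiv, MulAut.conj_symm_apply, mem_cen]
  constructor
  · intro h
    calc g * (y⁻¹ * x * y) = y⁻¹ * ((y * g * y⁻¹) * x) * y := by group
      _ = y⁻¹ * (x * (y * g * y⁻¹)) * y := by rw [h]
      _ = y⁻¹ * x * y * g := by group
  · intro h
    calc y * g * y⁻¹ * x = y * (g * (y⁻¹ * x * y)) * y⁻¹ := by group
      _ = y * (y⁻¹ * x * y * g) * y⁻¹ := by rw [h]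
      _ = x * (y * g * y⁻¹) := by group

lemma sz_conj (y g : G) : sz (y * g * y⁻¹) = sz g := by
  show (cen (y * g * y⁻¹)).index = _
  rw [cen_conj]
  exact Subgroup.index_map_equiv _ (MulAut.conj y)

lemma cen_mul_center (g : G) {z : G} (hz : z ∈ Subgroup.center G) : cen (g * z) = cen g := by
  ext x
  have hc := Subgroup.mem_center_iff.1 hz
  simp only [mem_cen]
  constructor
  · intro h
    rw [mul_assoc g z x, ← hc x, ← mul_assoc, ← mul_assoc] at h
    exact mul_right_cancel h
  · intro h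
    rw [mul_assoc g z x, ← hc x, ← mul_assoc, h, mul_assoc]

lemma not_center_of_not_le {g : G} {H : Subgroup G} (h : ¬ H ≤ cen g) : g ∉ Subgroup.center G :=
  fun hg => h ((cen_eq_top_iff.2 hg).symm ▸ le_top)

/-! ### elements of prime power order -/

lemma IsPPow.pow {p : ℕ} {a : G} (h : IsPPow p a) (j : ℕ) : IsPPow p (a ^ j) := by
  obtain ⟨k, hk⟩ := h
  exact ⟨k, by rw [← pow_mul, mul_comm, pow_mul, hk, one_pow]⟩

lemma IsPPow.of_mem {p : ℕ} {P : Subgroup G} (hP : IsPGroup p P) {a : G} (ha : a ∈ P) :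
    IsPPow p a := by
  obtain ⟨k, hk⟩ := hP ⟨a, ha⟩
  exact ⟨k, congrArg Subtype.val hk⟩

lemma IsPPow.conj {p : ℕ} {a : G} (h : IsPPow p a) (y : G) : IsPPow p (y * a * y⁻¹) := by
  obtain ⟨k, hk⟩ := h
  exact ⟨k, by rw [conj_pow, hk, mul_one, mul_inv_cancel]⟩

lemma IsPPow.orderOf_eq {p : ℕ} (hp : p.Prime) {a : G} (h : IsPPow p a) :
    ∃ k : ℕ, orderOf a = p ^ k := by
  obtain ⟨k, hk⟩ := h
  obtain ⟨i, -, hi⟩ := (Nat.dvd_prime_pow hp).1 (orderOf_dvd_of_pow_eq_one hk)
  exact ⟨i, hi⟩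

lemma IsPPow.isPGroup_zpowers {p : ℕ} (hp : p.Prime) {a : G} (h : IsPPow p a) :
    IsPGroup p (Subgroup.zpowers a) := by
  obtain ⟨k, hk⟩ := h.orderOf_eq hp
  exact IsPGroup.of_card (by rw [Nat.card_zpowers, hk])

lemma IsPPow.coprime {p q : ℕ} (hp : p.Prime) (hq : q.Prime) (hpq : p ≠ q) {a b : G}
    (ha : IsPPow p a) (hb : IsPPow q b) : (orderOf a).Coprime (orderOf b) := by
  obtain ⟨i, hi⟩ := ha.orderOf_eq hp
  obtain ⟨j, hj⟩ := hb.orderOf_eq hq
  rw [hi, hj]
  exact ((Nat.coprime_primes hp hq).2 hpq).pow i j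

lemma IsPPow.eq_one_of_ne {p q : ℕ} (hp : p.Prime) (hq : q.Prime) (hpq : p ≠ q) {a : G}
    (ha : IsPPow p a) (hb : IsPPow q a) : a = 1 :=
  orderOf_eq_one_iff.1 (Nat.eq_one_of_dvd_coprimes (ha.coprime hp hq hpq hb) dvd_rfl dvd_rfl)

lemma left_mem_zpowers_mul {a b : G} (h : Commute a b) (hcop : (orderOf a).Coprime (orderOf b)) :
    a ∈ Subgroup.zpowers (a * b) := by
  obtain ⟨k, hk1, hk2⟩ := Nat.chineseRemainder hcop 1 0
  refine Subgroup.mem_zpowers_iff.2 ⟨(k : ℤ), ?_⟩
  rw [zpow_natCast, h.mul_pow, orderOf_dvd_iff_pow_eq_one.1 (Nat.modEq_zero_iff_dvd.1 hk2), mul_one,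
    pow_eq_pow_iff_modEq.2 hk1, pow_one]

lemma cen_mul_eq {a b : G} (h : Commute a b) (hcop : (orderOf a).Coprime (orderOf b)) :
    cen (a * b) = cen a ⊓ cen b := by
  refine le_antisymm (le_inf (cen_le_of_mem_zpowers (left_mem_zpowers_mul h hcop)) ?_) fun x hx => ?_
  · refine cen_le_of_mem_zpowers ?_
    rw [h.eq]
    exact left_mem_zpowers_mul h.symm hcop.symm
  · exact mem_cen.2 (Commute.mul_left (show Commute a x from mem_cen.1 hx.1)
      (show Commute b x from mem_cen.1 hx.2))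

/-- An element lies in a subgroup as soon as all its prime power powers do. -/
lemma mem_of_primary [Finite G] {g : G} {K : Subgroup G}
    (h : ∀ p : ℕ, p.Prime → ∀ a ∈ Subgroup.zpowers g, IsPPow p a → a ∈ K) : g ∈ K := by
  suffices H : ∀ d : ℕ, ∀ a ∈ Subgroup.zpowers g, orderOf a = d → a ∈ K from
    H _ g (Subgroup.mem_zpowers g) rfl
  intro d
  induction d using Nat.recOnPosPrimePosCoprime with
  | prime_pow p k hp hk =>
      intro a ha hd
      exact h p hp a ha ⟨k, by rw [← hd, pow_orderOf_eq_one]⟩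
  | zero => intro a _ hd; exact absurd hd (orderOf_pos a).ne'
  | one => intro a _ hd; rw [orderOf_eq_one_iff.1 hd]; exact K.one_mem
  | coprime d e hd1 he1 hco ihd ihe =>
      intro a ha hde
      obtain ⟨k, hk1, hk2⟩ := Nat.chineseRemainder hco 1 0
      obtain ⟨l, hl1, hl2⟩ := Nat.chineseRemainder hco 0 1
      have hkl : k + l ≡ 1 [MOD d * e] :=
        (Nat.modEq_and_modEq_iff_modEq_mul hco).1
          ⟨by simpa using hk1.add hl1, by simpa using hk2.add hl2⟩
      have ha' : a = a ^ k * a ^ l := by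
        rw [← pow_add]
        conv_lhs => rw [← pow_one a]
        exact pow_eq_pow_iff_modEq.2 (hde ▸ hkl.symm)
      have hd0 : 0 < d := by omega
      have he0 : 0 < e := by omega
      have ek : orderOf (a ^ e) = d := by
        rw [orderOf_pow_of_dvd he0.ne' (hde ▸ dvd_mul_left e d), hde,
          Nat.mul_div_cancel _ he0]
      have el : orderOf (a ^ d) = e := by
        rw [orderOf_pow_of_dvd hd0.ne' (hde ▸ dvd_mul_right d e), hde,
          Nat.mul_div_cancel_left _ hd0]
      rw [ha']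
      obtain ⟨k', rfl⟩ := Nat.modEq_zero_iff_dvd.1 hk2
      obtain ⟨l', rfl⟩ := Nat.modEq_zero_iff_dvd.1 hl1
      rw [pow_mul, pow_mul]
      exact K.mul_mem (K.pow_mem (ihd _ (Subgroup.pow_mem _ ha _) ek) _)
        (K.pow_mem (ihe _ (Subgroup.pow_mem _ ha _) el) _)

/-! ### Sylow bookkeeping -/

variable [Finite G]

lemma fac_index (p : ℕ) (H : Subgroup G) :
    (Nat.card H).factorization p + H.index.factorization p = (Nat.card G).factorization p := by
  rw [← H.card_mul_index, Nat.factorization_mul Nat.card_pos.ne' H.index_ne_zero_of_finite,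
    Finsupp.add_apply]

lemma fac_le_of_le (p : ℕ) {H K : Subgroup G} (h : H ≤ K) :
    (Nat.card H).factorization p ≤ (Nat.card K).factorization p :=
  ((Nat.factorization_le_iff_dvd Nat.card_pos.ne' Nat.card_pos.ne').2
    (Subgroup.card_dvd_of_le h)) p

lemma card_eq_pow_fac {p : ℕ} (hp : p.Prime) {P : Subgroup G} (hP : IsPGroup p P) :
    Nat.card P = p ^ (Nat.card P).factorization p := by
  haveI := Fact.mk hp
  obtain ⟨k, hk⟩ := hP.exists_card_eq
  rw [hk, hp.factorization_pow, Finsupp.single_eq_same]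

lemma eq_of_le_of_fac {p : ℕ} (hp : p.Prime) {P Q : Subgroup G} (hP : IsPGroup p P)
    (hQ : IsPGroup p Q) (h : P ≤ Q)
    (hf : (Nat.card Q).factorization p ≤ (Nat.card P).factorization p) : P = Q := by
  refine Subgroup.eq_of_le_of_card_ge h ?_
  rw [card_eq_pow_fac hp hP, card_eq_pow_fac hp hQ]
  exact Nat.pow_le_pow_right hp.pos hf

lemma mem_of_normalizes {p : ℕ} (hp : p.Prime) {P H : Subgroup G} (hP : IsPGroup p P) (hPH : P ≤ H)
    (hf : (Nat.card H).factorization p ≤ (Nat.card P).factorization p) {y : G} (hy : IsPPow p y)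
    (hyH : y ∈ H) (hn : y ∈ Subgroup.normalizer (P : Set G)) : y ∈ P := by
  haveI := Fact.mk hp
  have hle : P ⊔ Subgroup.zpowers y ≤ H := sup_le hPH (Subgroup.zpowers_le.2 hyH)
  have hQ : IsPGroup p (Subgroup.zpowers y ⊔ P : Subgroup G) :=
    IsPGroup.to_sup_of_normal_right' (hy.isPGroup_zpowers hp) hP (Subgroup.zpowers_le.2 hn)
  rw [sup_comm] at hQ
  rw [eq_of_le_of_fac hp hP hQ le_sup_left ((fac_le_of_le p hle).trans hf)]
  exact Subgroup.mem_sup_right (Subgroup.mem_zpowers y)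

lemma mem_normalizer_of_commute {P : Subgroup G} {y : G} (h : P ≤ cen y) :
    y ∈ Subgroup.normalizer (P : Set G) := by
  refine Subgroup.mem_normalizer_iff.2 fun x => ⟨fun hx => ?_, fun hx => ?_⟩
  · rwa [mem_cen.1 (h hx), mul_inv_cancel_right]
  · have h1 := mem_cen.1 (h hx)
    have h2 : y * x * y⁻¹ = x := by
      have := congrArg (fun t => y⁻¹ * t) h1
      simp only [inv_mul_cancel_left] at this
      calc y * x * y⁻¹ = y⁻¹ * (y * x * y⁻¹ * y) := this
        _ = x := by group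
    rwa [h2] at hx

/-- A `p`-element with class size prime to `p` is central in some Sylow subgroup. -/
lemma exists_sylow_le_cen {p : ℕ} [Fact p.Prime] {a : G} (ha : IsPPow p a) (h : ¬ p ∣ sz a) :
    ∃ S : Sylow p G, (S : Subgroup G) ≤ cen a ∧ a ∈ (S : Subgroup G) := by
  have hp : p.Prime := Fact.out
  obtain ⟨Q⟩ := (inferInstance : Nonempty (Sylow p (cen a)))
  have hc : Nat.card (Q.1.map (cen a).subtype) = p ^ (Nat.card G).factorization p := by
    rw [Subgroup.card_map_of_injective (cen a).subtype_injective, Q.card_eq_multiplicity,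
      ← fac_index p (cen a), Nat.factorization_eq_zero_of_not_dvd h, add_zero]
  refine ⟨Sylow.ofCard _ hc, Subgroup.map_subtype_le _, ?_⟩
  refine mem_of_normalizes hp (Sylow.ofCard _ hc).isPGroup' le_top ?_ ha (Subgroup.mem_top a)
    (mem_normalizer_of_commute ?_)
  · rw [Subgroup.card_top]
    show _ ≤ (Nat.card ↥(Q.1.map (cen a).subtype)).factorization p
    rw [hc, hp.factorization_pow, Finsupp.single_eq_same]
  · exact (Subgroup.map_subtype_le _)

lemma not_dvd_sz {p : ℕ} [Fact p.Prime] (S : Sylow p G) {a : G} (h : (S : Subgroup G) ≤ cen a) :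
    ¬ p ∣ sz a := fun hd => S.not_dvd_index (hd.trans (Subgroup.index_dvd_of_le h))

/-- A subgroup with more `p`-power than the centre has a non-central `p`-element. -/
lemma exists_ppow_not_center {p : ℕ} (hp : p.Prime) {H : Subgroup G}
    (h : (Nat.card (Subgroup.center G)).factorization p < (Nat.card H).factorization p) :
    ∃ a ∈ H, IsPPow p a ∧ a ∉ Subgroup.center G := by
  haveI := Fact.mk hp
  obtain ⟨Q⟩ := (inferInstance : Nonempty (Sylow p H))
  by_contra hc
  push Not at hc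
  have hle : Q.1.map H.subtype ≤ Subgroup.center G := by
    rintro _ ⟨a, ha, rfl⟩
    exact hc a a.2 (IsPPow.of_mem (Q.isPGroup'.map H.subtype) (Subgroup.mem_map_of_mem _ ha))
  have := fac_le_of_le p hle
  rw [Subgroup.card_map_of_injective H.subtype_injective, Q.card_eq_multiplicity,
    hp.factorization_pow, Finsupp.single_eq_same] at this
  omega

/-- A non-central `p`-element over the centre gives more `p`-power. -/
lemma fac_center_lt {p : ℕ} (hp : p.Prime) {H : Subgroup G} (hZ : Subgroup.center G ≤ H) {a : G}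
    (haH : a ∈ H) (ha : IsPPow p a) (hnc : a ∉ Subgroup.center G) :
    (Nat.card (Subgroup.center G)).factorization p < (Nat.card H).factorization p := by
  set K := (Subgroup.center G).subgroupOf H with hK
  have hdvd : p ∣ K.index := by
    obtain ⟨k, hk⟩ := ha.orderOf_eq hp
    have h1 : orderOf (QuotientGroup.mk' K ⟨a, haH⟩) ∣ p ^ k :=
      hk ▸ (Subgroup.orderOf_mk a haH) ▸ orderOf_map_dvd (QuotientGroup.mk' K) ⟨a, haH⟩
    have h2 : orderOf (QuotientGroup.mk' K ⟨a, haH⟩) ≠ 1 := fun h => by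
      rw [orderOf_eq_one_iff] at h
      exact hnc (Subgroup.mem_subgroupOf.1 ((QuotientGroup.eq_one_iff _).1 h))
    obtain ⟨i, -, hi⟩ := (Nat.dvd_prime_pow hp).1 h1
    rcases i with _ | i
    · exact absurd (by rw [hi, pow_zero]) h2
    · rw [Subgroup.index_eq_card]
      refine ((dvd_pow_self p i.succ_ne_zero).trans (dvd_of_eq hi.symm)).trans ?_
      exact orderOf_dvd_natCard _
  have h := fac_index p K
  rw [hK, Nat.card_congr (Subgroup.subgroupOfEquivOfLe hZ).toEquiv] at h
  have := hp.factorization_pos_of_dvd K.index_ne_zero_of_finite hdvd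
  rw [hK] at this
  omega

/-- If `e` moves `u` by a central element and `u ^ t` is central, `e ^ t` commutes with `u`. -/
lemma pow_commute {t : ℕ} {e u : G} (h : e * u * e⁻¹ * u⁻¹ ∈ Subgroup.center G)
    (hu : u ^ t ∈ Subgroup.center G) : e ^ t ∈ cen u := by
  set z := e * u * e⁻¹ * u⁻¹ with hz
  have hzc : ∀ y, y * z = z * y := Subgroup.mem_center_iff.1 h
  have h1 : e * u * e⁻¹ = z * u := by rw [hz, inv_mul_cancel_right]
  have hcomm : Commute z u := (hzc u).symm
  have hzt : z ^ t = 1 := by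
    have h2 : (e * u * e⁻¹) ^ t = u ^ t := by
      rw [conj_pow, Subgroup.mem_center_iff.1 hu e, mul_inv_cancel_right]
    rw [h1, hcomm.mul_pow] at h2
    exact mul_eq_right.1 h2
  have key : ∀ k : ℕ, e ^ k * u * (e ^ k)⁻¹ = z ^ k * u := by
    intro k
    induction k with
    | zero => simp
    | succ k ih =>
      rw [pow_succ', mul_inv_rev, show e * e ^ k * u * ((e ^ k)⁻¹ * e⁻¹) =
        e * (e ^ k * u * (e ^ k)⁻¹) * e⁻¹ by group, ih, ← mul_assoc,
        ((show Commute e z from hzc e).pow_right k).eq, mul_assoc (z ^ k) e u,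
        mul_assoc (z ^ k) (e * u) e⁻¹, h1, ← mul_assoc, ← pow_succ]
  refine mem_cen.2 ?_
  have := key t
  rw [hzt, one_mul, mul_inv_eq_iff_eq_mul] at this
  exact this.symm

/-- Coprime orders turn "commutes modulo the centre" into "commutes". -/
lemma mem_cen_of_coprime {h w : G} (hc : h * w * h⁻¹ * w⁻¹ ∈ Subgroup.center G)
    (hcop : (orderOf h).Coprime (orderOf w)) : h ∈ cen w := by
  have h1 := pow_commute (t := orderOf w) hc (by rw [pow_orderOf_eq_one]; exact one_mem _)
  obtain ⟨k, hk⟩ := exists_pow_eq_self_of_coprime hcop.symm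
  exact hk ▸ Subgroup.pow_mem _ h1 k

lemma mem_normalizer_cen {y u : G} (h : y * u * y⁻¹ * u⁻¹ ∈ Subgroup.center G) :
    y ∈ Subgroup.normalizer ((cen u : Subgroup G) : Set G) := by
  rw [Subgroup.mem_normalizer_iff]
  intro x
  have hc : cen (y * u * y⁻¹) = cen u := by
    rw [show y * u * y⁻¹ = u * (y * u * y⁻¹ * u⁻¹) by
      rw [Subgroup.mem_center_iff.1 h u, inv_mul_cancel_right], cen_mul_center _ h]
  conv_rhs => rw [← hc, cen_conj, Subgroup.mem_map_equiv, MulAut.conj_symm_apply]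
  rw [show y⁻¹ * (y * x * y⁻¹) * y = x by group]

/-- A non-central normal part of a `p`-group contains a non-central element that is central modulo
the centre and has central `p`-th power. -/
lemma exists_special {p : ℕ} (hp : p.Prime) {T Q : Subgroup G} (hT : IsPGroup p T) (hQT : Q ≤ T)
    (hn : T ≤ Subgroup.normalizer (Q : Set G)) (hQ : ¬ Q ≤ Subgroup.center G) :
    ∃ u ∈ Q, u ∉ Subgroup.center G ∧ u ^ p ∈ Subgroup.center G ∧
      ∀ y ∈ T, y * u * y⁻¹ * u⁻¹ ∈ Subgroup.center G := by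
  haveI := Fact.mk hp
  set Z' := (Subgroup.center G).subgroupOf T
  haveI : Z'.Normal := by
    refine ⟨fun x hx y => ?_⟩
    rw [Subgroup.mem_subgroupOf] at hx ⊢
    exact (inferInstance : (Subgroup.center G).Normal).conj_mem _ hx _
  haveI : (Q.subgroupOf T).Normal := Subgroup.normal_subgroupOf_of_le_normalizer hn
  set M := (Q.subgroupOf T).map (QuotientGroup.mk' Z') with hM
  haveI : M.Normal := Subgroup.Normal.map inferInstance _ (QuotientGroup.mk'_surjective _)
  haveI : Group.IsNilpotent (T ⧸ Z') := (hT.to_quotient Z').isNilpotent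
  have hMne : M ≠ ⊥ := by
    rw [hM, ne_eq, Subgroup.map_eq_bot_iff, QuotientGroup.ker_mk']
    intro h
    exact hQ fun q hq => Subgroup.mem_subgroupOf.1
      (h (Subgroup.mem_subgroupOf.2 hq : (⟨q, hQT hq⟩ : T) ∈ Q.subgroupOf T))
  obtain ⟨⟨c, hc⟩, hc1⟩ := Subgroup.ne_bot_iff_exists_ne_one.1 (SolvStruct.inf_center_ne_bot hMne)
  have hpc : p ∣ Nat.card (M ⊓ Subgroup.center _ : Subgroup (T ⧸ Z')) := by
    haveI : Nontrivial (M ⊓ Subgroup.center _ : Subgroup (T ⧸ Z')) := ⟨⟨_, _, hc1⟩⟩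
    obtain ⟨k, hk, hcard⟩ :=
      ((hT.to_quotient Z').to_subgroup (M ⊓ Subgroup.center _)).nontrivial_iff_card.1 inferInstance
    rw [hcard]
    exact dvd_pow_self p hk.ne'
  obtain ⟨d, hd⟩ := exists_prime_orderOf_dvd_card' p hpc
  obtain ⟨v, hv, hvd⟩ := Subgroup.mem_map.1 d.2.1
  refine ⟨v, Subgroup.mem_subgroupOf.1 hv, ?_, ?_, ?_⟩
  · intro h
    have : (d : T ⧸ Z') = 1 := hvd ▸ (QuotientGroup.eq_one_iff v).2 (Subgroup.mem_subgroupOf.2 h)
    rw [← Subgroup.orderOf_coe, this, orderOf_one] at hd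
    exact hp.one_lt.ne hd
  · have h1 : QuotientGroup.mk' Z' (v ^ p) = 1 := by
      rw [map_pow, hvd, ← SubmonoidClass.coe_pow, ← hd, pow_orderOf_eq_one, Subgroup.coe_one]
    simpa using Subgroup.mem_subgroupOf.1 ((QuotientGroup.eq_one_iff _).1 h1)
  · intro y hy
    have h1 := Subgroup.mem_center_iff.1 d.2.2 (QuotientGroup.mk' Z' ⟨y, hy⟩)
    rw [← hvd] at h1
    have h2 : QuotientGroup.mk' Z' (⟨y, hy⟩ * v * ⟨y, hy⟩⁻¹ * v⁻¹) = 1 := by
      rw [map_mul, map_mul, map_mul, map_inv, map_inv, h1, mul_inv_cancel_right, mul_inv_cancel]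
    simpa using Subgroup.mem_subgroupOf.1 ((QuotientGroup.eq_one_iff _).1 h2)

end Cfsg.Agent.ClassTriple
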