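import Cfsg.Agent.Lib.ClassSizeTriple.Split
import Cfsg.Agent.Lib.ClassSizeTriple.PrimePower

/-!
# Some element of class size `m` has order involving a prime of `m`
-/

set_option autoImplicit false
set_option linter.style.haveILetI false

namespace Cfsg.Agent.ClassTriple

universe u

variable {G : Type u} [Group G] [Finite G] {m n : ℕ}

omit [Finite G] in
lemma not_center_conj {a : G} (ha : a ∉ Subgroup.center G) (y : G) :
    y * a * y⁻¹ ∉ Subgroup.center G := fun hz => ha (by
  have h2 := (inferInstance : (Subgroup.center G).Normal).conj_mem _ hz y⁻¹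
  rwa [show y⁻¹ * (y * a * y⁻¹) * y⁻¹⁻¹ = a by group] at h2)

/-- `p`-elements of `H` lie in a normal subgroup with the same `p`-power. -/
lemma ppow_mem_normal {p : ℕ} (hp : p.Prime) {N H : Subgroup G} [N.Normal] (hNH : N ≤ H)
    (hf : (Nat.card H).factorization p ≤ (Nat.card N).factorization p) {a : G} (ha : IsPPow p a)
    (haH : a ∈ H) : a ∈ N := by
  set K := N.subgroupOf H
  obtain ⟨k, hk⟩ := ha.orderOf_eq hp
  have h1 : orderOf (QuotientGroup.mk' K ⟨a, haH⟩) ∣ p ^ k :=
    hk ▸ (Subgroup.orderOf_mk a haH) ▸ orderOf_map_dvd (QuotientGroup.mk' K) ⟨a, haH⟩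
  have hni : ¬ p ∣ K.index := fun hd => by
    have h2 := fac_index p K
    rw [Nat.card_congr (Subgroup.subgroupOfEquivOfLe hNH).toEquiv] at h2
    have := hp.factorization_pos_of_dvd K.index_ne_zero_of_finite hd
    omega
  have h3 : orderOf (QuotientGroup.mk' K ⟨a, haH⟩) = 1 := by
    refine Nat.eq_one_of_dvd_coprimes (((hp.coprime_iff_not_dvd.2 hni)).pow_left k) h1 ?_
    rw [Subgroup.index_eq_card]
    exact orderOf_dvd_natCard _
  exact Subgroup.mem_subgroupOf.1 ((QuotientGroup.eq_one_iff _).1 (orderOf_eq_one_iff.1 h3))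

/-- If a subgroup meets `T` in index equal to its own index, `T` supplies all conjugations. -/
lemma exists_mem_of_relIndex {C T : Subgroup G} (hrel : C.relIndex T = C.index) (y : G) :
    ∃ τ ∈ T, τ⁻¹ * y ∈ C := by
  let f : T ⧸ C.subgroupOf T → G ⧸ C :=
    Quotient.map' Subtype.val fun a b hab' => by
      rw [QuotientGroup.leftRel_apply] at hab' ⊢
      exact Subgroup.mem_subgroupOf.1 hab'
  have hf : Function.Injective f := by
    intro a b
    refine Quotient.inductionOn₂' a b fun a b hab' => ?_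
    exact Quotient.sound' (QuotientGroup.leftRel_apply.2
      (Subgroup.mem_subgroupOf.2 (QuotientGroup.eq.1 hab')))
  have hcard : Nat.card (T ⧸ C.subgroupOf T) = Nat.card (G ⧸ C) := by
    rw [← Subgroup.index_eq_card, ← Subgroup.index_eq_card]; exact hrel
  obtain ⟨q, hq⟩ := ((Nat.bijective_iff_injective_and_card f).2 ⟨hf, hcard⟩).2 (QuotientGroup.mk y)
  induction q using Quotient.inductionOn' with
  | _ τ => exact ⟨τ, τ.2, QuotientGroup.eq.1 hq⟩

namespace Triple

variable (h : Triple G m n) (hno : ∀ t : ℕ, t.Prime → t ∣ m → ∀ a : G, IsPPow t a → sz a ≠ m)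
include h hno

omit [Finite G] in
lemma mn_of_ppow {t : ℕ} (ht : t.Prime) (htm : t ∣ m) {u : G} (hu : IsPPow t u)
    (huc : u ∉ Subgroup.center G) : sz u = m * n :=
  (h.sz_of_not_center huc).resolve_left (hno t ht htm u hu)

lemma cen_le_of_coprime {t : ℕ} (ht : t.Prime) (htm : t ∣ m) {u : G} (hu : IsPPow t u)
    (huc : u ∉ Subgroup.center G) {w : G} (hw : w ∈ cen u) (hco : (orderOf w).Coprime t) :
    cen u ≤ cen w := by
  obtain ⟨k, hk⟩ := hu.orderOf_eq ht
  have heq := cen_mul_eq (show Commute u w from mem_cen.1 hw) (by rw [hk]; exact hco.symm.pow_left k)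
  have hnc : u * w ∉ Subgroup.center G := fun hz => huc (cen_eq_top_iff.1
    (top_le_iff.1 ((cen_eq_top_iff.2 hz).symm ▸ heq ▸ inf_le_left)))
  rw [← (h.eq_of_le_mn hnc (heq ▸ inf_le_left) (h.mn_of_ppow hno ht htm hu huc)).1, heq]
  exact inf_le_right

/-- Every non-central `t`-element commutes with an element of class size `m` of order prime to `m`. -/
lemma exists_good : ∃ q : ℕ, q.Prime ∧ ¬ q ∣ m ∧ ∀ t : ℕ, t.Prime → t ∣ m → ∀ u : G,
    IsPPow t u → u ∉ Subgroup.center G → ∃ w ∈ cen u, IsPPow q w ∧ sz w = m := by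
  obtain ⟨q, x, hq, hxq, hxm⟩ := h.exists_primary_m
  have hqm : ¬ q ∣ m := fun hd => hno q hq hd x hxq hxm
  haveI := Fact.mk hq
  have hxc := h.not_center_of_m hxm
  obtain ⟨S, hS, -⟩ := exists_sylow_le_cen hxq (by rw [hxm]; exact hqm)
  refine ⟨q, hq, hqm, fun t ht htm u hu huc => ?_⟩
  have hqt : q ≠ t := fun e => hqm (e ▸ htm)
  obtain ⟨a, ha, hat, hac⟩ := h.exists_ppow_cen ht htm hxc
  obtain ⟨w, hw, hwq, hwc⟩ := exists_ppow_not_center hq (H := cen u) (by
    have h1 := fac_center_lt hq (center_le_cen a) (mem_cen_symm ha) hxq hxc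
    have h2 := fac_index q (cen a)
    have h3 := fac_index q (cen u)
    rw [show (cen a).index = m * n from h.mn_of_ppow hno ht htm hat hac] at h2
    rw [show (cen u).index = m * n from h.mn_of_ppow hno ht htm hu huc] at h3
    omega)
  rcases h.sz_of_not_center hwc with e | e
  · exact ⟨w, hw, hwq, e⟩
  · have hle := h.cen_le_of_coprime hno ht htm hu huc hw (by
      obtain ⟨k, hk⟩ := hwq.orderOf_eq hq
      rw [hk]; exact ((Nat.coprime_primes hq ht).2 hqt).pow_left k)
    have heq := (h.eq_of_le_mn huc hle e).1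
    obtain ⟨y, hy⟩ := exists_conj_mem S hwq
    refine ⟨y⁻¹ * x * y⁻¹⁻¹, ?_, hxq.conj y⁻¹, (sz_conj y⁻¹ x).trans hxm⟩
    rw [heq]
    refine mem_cen_symm ?_
    rw [cen_conj]
    exact ⟨y * w * y⁻¹, hS hy, by simp [mul_assoc]⟩

lemma prime_unique {t r : ℕ} (ht : t.Prime) (htm : t ∣ m) (hr : r.Prime) (hrm : r ∣ m) : t = r := by
  by_contra htr
  haveI := Fact.mk ht
  obtain ⟨q, hq, hqm, hgood⟩ := h.exists_good hno
  obtain ⟨T⟩ := (inferInstance : Nonempty (Sylow t G))
  obtain ⟨u, huT, huc⟩ := SetLike.not_le_iff_exists.1 (h.sylow_not_le_center htm T)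
  have hu : IsPPow t u := IsPPow.of_mem T.isPGroup' huT
  obtain ⟨a, ha, har, hac⟩ := h.exists_ppow_cen hr hrm huc
  have hcop : ∀ {p l : ℕ} {b : G}, p.Prime → l.Prime → p ≠ l → IsPPow p b →
      (orderOf b).Coprime l := by
    intro p l b hp hl hpl hb
    obtain ⟨k, hk⟩ := hb.orderOf_eq hp
    rw [hk]; exact ((Nat.coprime_primes hp hl).2 hpl).pow_left k
  have hle := h.cen_le_of_coprime hno ht htm hu huc ha (hcop hr ht (Ne.symm htr) har)
  have heq := (h.eq_of_le_mn huc hle (h.mn_of_ppow hno hr hrm har hac)).1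
  have hcomm : ∀ b ∈ cen u, ∀ c ∈ cen u, b * c = c * b := by
    intro b hb c hc
    have hmem : b ∈ cen u ⊓ Subgroup.centralizer ((cen u : Subgroup G) : Set G) :=
      mem_of_primary fun p hp b' hb' hbp => by
        have hb'u : b' ∈ cen u := Subgroup.zpowers_le.2 hb hb'
        refine ⟨hb'u, Subgroup.mem_centralizer_iff.2 fun y hy => ?_⟩
        by_cases hpt : p = t
        · exact (mem_cen.1 (h.cen_le_of_coprime hno hr hrm har hac (heq ▸ hb'u)
            (hcop hp hr (hpt ▸ htr) hbp) (heq ▸ hy))).symm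
        · exact (mem_cen.1 (h.cen_le_of_coprime hno ht htm hu huc hb'u
            (hcop hp ht hpt hbp) hy)).symm
    exact ((Subgroup.mem_centralizer_iff.1 hmem.2) c hc).symm
  obtain ⟨w, hw, hwq, hwm⟩ := hgood t ht htm u hu huc
  refine htr (h.prime_eq rfl huc hcomm (fun l hl hlm b hb hbl hbc => ?_) hq hqm hw hwq
    (h.not_center_of_m hwm) ht htm hr hrm)
  exact ((h.eq_of_le_mn huc (fun y hy => mem_cen.2 (hcomm b hb y hy))
    (h.mn_of_ppow hno hl hlm hbl hbc)).1).symm

/-- The data attached to an element that is central in `T` modulo the centre. -/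
lemma package {t q : ℕ} [Fact t.Prime] (htm : t ∣ m) (hq : q.Prime) (hqm : ¬ q ∣ m)
    (hgood : ∀ t : ℕ, t.Prime → t ∣ m → ∀ u : G,
      IsPPow t u → u ∉ Subgroup.center G → ∃ w ∈ cen u, IsPPow q w ∧ sz w = m)
    (T : Sylow t G) {u : G} (huT : u ∈ (T : Subgroup G)) (huc : u ∉ Subgroup.center G)
    (hu : ∀ y ∈ (T : Subgroup G), y * u * y⁻¹ * u⁻¹ ∈ Subgroup.center G) :
    ∃ (w : G) (V N0 : Subgroup G), IsPPow q w ∧ sz w = m ∧ w ∈ V ∧ V.Normal ∧ N0.Normal ∧
      N0 = Subgroup.centralizer (V : Set G) ∧ V ≤ N0 ∧ IsPGroup q V ∧ cen u ≤ N0 ∧ N0 ≤ cen w ∧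
      (T : Subgroup G) ⊓ N0 = (T : Subgroup G) ⊓ cen u ∧
      (T : Subgroup G) ⊓ cen w = (T : Subgroup G) ⊓ cen u ∧
      (Nat.card ((T : Subgroup G) ⊓ cen u : Subgroup G)).factorization t =
        (Nat.card (cen u)).factorization t ∧
      (cen w).relIndex (T : Subgroup G) = m ∧
      (∀ a ∈ N0, IsPPow t a → a ∉ Subgroup.center G → cen a ≤ N0) := by
  have ht : t.Prime := Fact.out
  have hut : IsPPow t u := IsPPow.of_mem T.isPGroup' huT
  have hqt : q ≠ t := fun e => hqm (e ▸ htm)
  have hTn : (T : Subgroup G) ≤ Subgroup.normalizer ((cen u : Subgroup G) : Set G) :=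
    fun y hy => mem_normalizer_cen (hu y hy)
  set T1 := (T : Subgroup G) ⊓ cen u with hT1
  have hfac : (Nat.card T1).factorization t = (Nat.card (cen u)).factorization t := by
    refine le_antisymm (fac_le_of_le t inf_le_right) ?_
    have h1 := congrArg (fun k => k.factorization t) (SolvBasic.card_sup_mul_card_inf hTn)
    simp only [Nat.factorization_mul Nat.card_pos.ne' Nat.card_pos.ne', Finsupp.add_apply] at h1
    rw [inf_comm, ← hT1, T.card_eq_multiplicity, ht.factorization_pow, Finsupp.single_eq_same] at h1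
    have h2 := fac_le_of_le t (le_top : cen u ⊔ (T : Subgroup G) ≤ ⊤)
    rw [Subgroup.card_top] at h2
    omega
  obtain ⟨w, hw, hwq, hwm⟩ := hgood t ht htm u hut huc
  have hwc := h.not_center_of_m hwm
  have hDw : ∀ b ∈ cen u, IsPPow q b → cen u ≤ cen b := fun b hb hbq =>
    h.cen_le_of_coprime hno ht htm hut huc hb (by
      obtain ⟨k, hk⟩ := hbq.orderOf_eq hq
      rw [hk]; exact ((Nat.coprime_primes hq ht).2 hqt).pow_left k)
  have hTw : (T : Subgroup G) ⊓ cen w = T1 := by
    refine (eq_of_le_of_fac ht (T.isPGroup'.to_le inf_le_left) (T.isPGroup'.to_le inf_le_left)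
      (inf_le_inf_left _ (hDw w hw hwq)) ?_).symm
    rw [hfac, h.fac_eq ht htm huc hwc]
    exact fac_le_of_le t inf_le_right
  have hrel : (cen w).relIndex (T : Subgroup G) = m := by
    have hm : m = t ^ m.factorization t := Nat.eq_pow_of_factorization_eq_single h.m_ne_zero (by
      ext r
      by_cases hrt : r = t
      · subst hrt; rw [Finsupp.single_eq_same]
      · rw [Finsupp.single_eq_of_ne hrt]
        by_contra hc
        have hr : r ∈ m.primeFactors := Nat.support_factorization m ▸ Finsupp.mem_support_iff.2 hc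
        exact hrt (h.prime_unique hno (Nat.prime_of_mem_primeFactors hr)
          (Nat.dvd_of_mem_primeFactors hr) ht htm))
    have h1 : Nat.card ((T : Subgroup G) ⊓ cen w : Subgroup G) * (cen w).relIndex (T : Subgroup G) =
        Nat.card (T : Subgroup G) := by
      rw [← Subgroup.inf_relIndex_left (T : Subgroup G) (cen w),
        ← Subgroup.relIndex_bot_left ((T : Subgroup G) ⊓ cen w),
        Subgroup.relIndex_mul_relIndex _ _ _ bot_le inf_le_left, Subgroup.relIndex_bot_left]
    have h3 := h.fac_sum ht htm huc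
    rw [hTw, card_eq_pow_fac ht (T.isPGroup'.to_le inf_le_left), hfac, T.card_eq_multiplicity, ← h3,
      pow_add, ← hm] at h1
    exact Nat.eq_of_mul_eq_mul_left (pow_pos ht.pos _) h1
  have hconj : ∀ y, y * w * y⁻¹ ∈ cen u := by
    intro y
    obtain ⟨τ, hτ, hc⟩ := exists_mem_of_relIndex (hrel.trans hwm.symm) y
    have h1 := mem_cen.1 hc
    rw [show y * w * y⁻¹ = τ * ((τ⁻¹ * y) * w) * (τ⁻¹ * y)⁻¹ * τ⁻¹ by group, ← h1,
      ← mul_assoc τ w, mul_inv_cancel_right, mul_assoc]
    have := (Subgroup.mem_normalizer_iff.1 (hTn hτ) w).1 hw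
    rwa [mul_assoc] at this
  set V := Subgroup.normalClosure ({w} : Set G) with hV
  set N0 := Subgroup.centralizer (V : Set G) with hN0
  haveI hVn : V.Normal := Subgroup.normalClosure_normal
  haveI hN0n : N0.Normal := Subgroup.normal_centralizer
  have hgen : ∀ {K : Subgroup G}, (∀ y, y * w * y⁻¹ ∈ K) → V ≤ K := by
    intro K hK
    refine (Subgroup.closure_le K).2 fun g hg => ?_
    obtain ⟨_, rfl, hc⟩ := Group.mem_conjugatesOfSet_iff.1 hg
    obtain ⟨y, rfl⟩ := isConj_iff.1 hc
    exact hK y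
  have hVD : V ≤ cen u := hgen hconj
  have hDN : cen u ≤ N0 := by
    rw [hN0, Subgroup.le_centralizer_iff]
    refine hgen fun y => Subgroup.mem_centralizer_iff.2 fun d hd => ?_
    exact (mem_cen.1 (hDw _ (hconj y) (hwq.conj y) hd)).symm
  have hwV : w ∈ V := Subgroup.subset_normalClosure (Set.mem_singleton w)
  have hNw : N0 ≤ cen w := fun g hg => mem_cen.2 (Subgroup.mem_centralizer_iff.1 hg w hwV)
  have hVN : V ≤ N0 := hVD.trans hDN
  have hVq : IsPGroup q V := by
    have hcomm : ∀ a ∈ V, ∀ b ∈ V, a * b = b * a := fun a ha b hb =>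
      Subgroup.mem_centralizer_iff.1 (hVN hb) a ha
    exact (ppart_isPGroup (D := V) (hD := hcomm) q).to_le
      (hgen fun y => ⟨hVn.conj_mem w hwV y, hwq.conj y⟩)
  have hTN : (T : Subgroup G) ⊓ N0 = T1 :=
    le_antisymm ((inf_le_inf_left _ hNw).trans hTw.le) (inf_le_inf_left _ hDN)
  refine ⟨w, V, N0, hwq, hwm, hwV, hVn, hN0n, rfl, hVN, hVq, hDN, hNw, hTN, hTw, hfac, hrel, ?_⟩
  intro a ha hat hac
  obtain ⟨y, hy⟩ := exists_conj_mem T hat
  have hya : y * a * y⁻¹ ∈ cen u :=
    (hTN.le ⟨hy, hN0n.conj_mem a ha y⟩ : y * a * y⁻¹ ∈ T1).2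
  suffices hle : cen (y * a * y⁻¹) ≤ N0 by
    intro g hg
    have := hle (show y * g * y⁻¹ ∈ cen (y * a * y⁻¹) from cen_conj y a ▸ Subgroup.mem_map_of_mem _ hg)
    have h2 := hN0n.conj_mem _ this y⁻¹
    rwa [show y⁻¹ * (y * g * y⁻¹) * y⁻¹⁻¹ = g by group] at h2
  rw [hN0, Subgroup.le_centralizer_iff]
  refine hgen fun z => Subgroup.mem_centralizer_iff.2 fun g hg => ?_
  have hb := hDw _ (hconj z) (hwq.conj z) hya
  exact (mem_cen.1 (h.cen_le_of_coprime hno ht htm (hat.conj y) (not_center_conj hac y)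
    (mem_cen_symm hb) (by
      obtain ⟨k, hk⟩ := (hwq.conj z).orderOf_eq hq
      rw [hk]; exact ((Nat.coprime_primes hq ht).2 hqt).pow_left k) hg)).symm

theorem false_of_no_ppow : False := by
  obtain ⟨q, hq, hqm, hgood⟩ := h.exists_good hno
  set t := m.minFac
  have ht : t.Prime := Nat.minFac_prime h.one_lt_m.ne'
  have htm : t ∣ m := Nat.minFac_dvd m
  haveI := Fact.mk ht
  have hqt : q ≠ t := fun e => hqm (e ▸ htm)
  obtain ⟨T⟩ := (inferInstance : Nonempty (Sylow t G))
  obtain ⟨u, huT, huc, -, hu⟩ := exists_special ht T.isPGroup' le_rfl Subgroup.le_normalizer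
    (h.sylow_not_le_center htm T)
  obtain ⟨w, V, N0, hwq, hwm, hwV, hVn, hN0n, hN0, hVN, hVq, hDN, hNw, hTN, hTw, hfac, hrel, hcen⟩ :=
    h.package hno htm hq hqm hgood T huT huc hu
  haveI := hVn
  haveI := hN0n
  set T1 := (T : Subgroup G) ⊓ cen u with hT1
  have hT1n : (T : Subgroup G) ≤ Subgroup.normalizer (T1 : Set G) := by
    intro y hy
    rw [← hTN, Subgroup.mem_normalizer_iff]
    intro g
    constructor
    · exact fun hg => ⟨(T : Subgroup G).mul_mem ((T : Subgroup G).mul_mem hy hg.1) ((T : Subgroup G).inv_mem hy), hN0n.conj_mem g hg.2 y⟩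
    · intro hg
      have h2 := hN0n.conj_mem _ hg.2 y⁻¹
      rw [show y⁻¹ * (y * g * y⁻¹) * y⁻¹⁻¹ = g by group] at h2
      have h3 := (T : Subgroup G).mul_mem ((T : Subgroup G).mul_mem ((T : Subgroup G).inv_mem hy) hg.1) hy
      rw [show y⁻¹ * (y * g * y⁻¹) * y = g by group] at h3
      exact ⟨h3, h2⟩
  have hT1c : ¬ T1 ≤ Subgroup.center G := fun hle => by
    have h1 := fac_le_of_le t hle
    rw [hfac] at h1
    exact absurd (h.fac_center_lt_cen ht htm huc) (not_lt.2 h1)
  obtain ⟨c, hc, hcc, hcp, hce⟩ := exists_special ht T.isPGroup' inf_le_left hT1n hT1c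
  have hexp : ∀ e ∈ (T : Subgroup G), e ^ t ∈ T1 := fun e he => hTN.le
    ⟨pow_mem he t, hcen c (hDN hc.2) (IsPPow.of_mem T.isPGroup' hc.1) hcc
      (pow_commute (hce e he) hcp)⟩
  haveI : (T1.subgroupOf (T : Subgroup G)).Normal := Subgroup.normal_subgroupOf_of_le_normalizer hT1n
  set E := (T : Subgroup G) ⧸ T1.subgroupOf (T : Subgroup G)
  have hEcomm : IsMulCommutative E := by
    refine ⟨⟨fun a b => ?_⟩⟩
    obtain ⟨a, rfl⟩ := QuotientGroup.mk'_surjective _ a
    obtain ⟨b, rfl⟩ := QuotientGroup.mk'_surjective _ b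
    rw [← map_mul, ← map_mul]
    refine (QuotientGroup.eq.2 ?_)
    rw [Subgroup.mem_subgroupOf]
    refine ⟨((a * b)⁻¹ * (b * a)).2, mem_cen.2 ?_⟩
    have ha := Subgroup.mem_center_iff.1 (hu a a.2)
    have hb := Subgroup.mem_center_iff.1 (hu b b.2)
    set za := (a : G) * u * (a : G)⁻¹ * u⁻¹ with hza
    set zb := (b : G) * u * (b : G)⁻¹ * u⁻¹ with hzb
    have ha' : (a : G) * u * (a : G)⁻¹ = za * u := by rw [hza, inv_mul_cancel_right]
    have hb' : (b : G) * u * (b : G)⁻¹ = zb * u := by rw [hzb, inv_mul_cancel_right]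
    clear_value za zb
    push_cast
    have hab : ((a : G) * b) * u * ((a : G) * b)⁻¹ = za * zb * u := by
      calc ((a : G) * b) * u * ((a : G) * b)⁻¹ = (a : G) * ((b : G) * u * (b : G)⁻¹) * (a : G)⁻¹ := by
            group
        _ = zb * ((a : G) * u * (a : G)⁻¹) := by rw [hb', ← mul_assoc (a : G) zb u, hb]; group
        _ = za * zb * u := by rw [ha', ← mul_assoc, ← hb za]
    have hba : ((b : G) * a) * u * ((b : G) * a)⁻¹ = za * zb * u := by
      calc ((b : G) * a) * u * ((b : G) * a)⁻¹ = (b : G) * ((a : G) * u * (a : G)⁻¹) * (b : G)⁻¹ := by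
            group
        _ = za * ((b : G) * u * (b : G)⁻¹) := by rw [ha', ← mul_assoc (b : G) za u, ha]; group
        _ = za * zb * u := by rw [hb', mul_assoc]
    calc u * (((a : G) * b)⁻¹ * ((b : G) * a))
        = ((a : G) * b)⁻¹ * (((a : G) * b) * u * ((a : G) * b)⁻¹) * ((b : G) * a) := by group
      _ = ((a : G) * b)⁻¹ * (((b : G) * a) * u * ((b : G) * a)⁻¹) * ((b : G) * a) := by rw [hab, hba]
      _ = ((a : G) * b)⁻¹ * ((b : G) * a) * u := by group
  -- the action on `V` modulo the centre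
  have hcommV : ∀ a ∈ V, ∀ b ∈ V, a * b = b * a := fun a ha b hb =>
    Subgroup.mem_centralizer_iff.1 (hN0.le (hVN hb)) a ha
  let ρ0 : (T : Subgroup G) →* MulAut ↥(bar V) := (actHom V V le_rfl).comp
    ((T : Subgroup G).subtype.codRestrict _ fun y => by
      rw [Subgroup.normalizer_eq_top V]; exact Subgroup.mem_top _)
  have hker : T1.subgroupOf (T : Subgroup G) ≤ ρ0.ker := by
    intro y hy
    rw [MonoidHom.mem_ker]
    ext ⟨_, a, ha, rfl⟩
    rw [MulAut.one_apply]
    show QuotientGroup.mk' _ (y : G) * QuotientGroup.mk' _ a * (QuotientGroup.mk' _ (y : G))⁻¹ = _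
    rw [← map_mul, ← map_inv, ← map_mul]
    congr 1
    rw [← Subgroup.mem_centralizer_iff.1 (hN0.le (hDN (Subgroup.mem_subgroupOf.1 hy).2)) a ha,
      mul_inv_cancel_right]
  let ρ : E →* MulAut ↥(bar V) := QuotientGroup.lift _ ρ0 hker
  have hwc := h.not_center_of_m hwm
  haveI := bar_nontrivial V hwV hwc
  have hfpf : ∀ e : E, e ≠ 1 → ∀ a, ρ e a = a → a = 1 := by
    intro e he a hfix
    obtain ⟨y, rfl⟩ := QuotientGroup.mk'_surjective _ e
    obtain ⟨b, hb, hba⟩ := a.2
    by_contra hne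
    have hbc : b ∉ Subgroup.center G := fun hz => hne (Subtype.ext (by
      rw [← hba]; exact (QuotientGroup.eq_one_iff b).2 hz))
    have h1 := congrArg Subtype.val hfix
    change QuotientGroup.mk' (Subgroup.center G) (y : G) * (a : G ⧸ Subgroup.center G) *
      (QuotientGroup.mk' (Subgroup.center G) (y : G))⁻¹ = a at h1
    rw [← hba, ← map_mul, ← map_inv, ← map_mul] at h1
    have h2 : (y : G) * b * (y : G)⁻¹ * b⁻¹ ∈ Subgroup.center G := by
      rw [← QuotientGroup.eq_one_iff]
      show QuotientGroup.mk' (Subgroup.center G) _ = 1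
      rw [map_mul, h1, map_inv, mul_inv_cancel]
    have hyt := IsPPow.of_mem T.isPGroup' y.2
    have hyb := mem_cen_of_coprime h2 (hyt.coprime ht hq hqt.symm (IsPPow.of_mem hVq hb))
    refine he ((QuotientGroup.eq_one_iff y).2 (Subgroup.mem_subgroupOf.2
      (mem_of_normalizes ht (T.isPGroup'.to_le inf_le_left) (fun g hg => mem_cen.2
        (Subgroup.mem_centralizer_iff.1 (hN0.le (hDN hg.2)) b hb)) ?_ hyt hyb (hT1n y.2))))
    rw [hfac, h.fac_eq ht htm huc hbc]
  haveI := hEcomm
  have hcyc := isCyclic_of_fpf_comm ρ hfpf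
  obtain ⟨gE, hgE⟩ := hcyc.exists_ofOrder_eq_natCard
  have hcardE : Nat.card E = m := by
    rw [← hrel, ← Subgroup.inf_relIndex_left (T : Subgroup G) (cen w), hTw]
    exact (Subgroup.index_eq_card _).symm
  have hmt : m = t := by
    refine Nat.dvd_antisymm ?_ htm
    rw [← hcardE, ← hgE, orderOf_dvd_iff_pow_eq_one]
    obtain ⟨y, rfl⟩ := QuotientGroup.mk'_surjective _ gE
    rw [← map_pow, QuotientGroup.mk'_apply, QuotientGroup.eq_one_iff, Subgroup.mem_subgroupOf]
    simpa using hexp y y.2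
  have hfm : m.factorization t = 1 := by rw [hmt, ht.factorization_self]
  obtain ⟨g, hgT, hgT1⟩ := SetLike.not_le_iff_exists.1
    (show ¬ (T : Subgroup G) ≤ T1 from fun hle => by
      have h1 := fac_le_of_le t hle
      rw [hfac, T.card_eq_multiplicity, ht.factorization_pow, Finsupp.single_eq_same] at h1
      have h2 := h.fac_sum ht htm huc
      omega)
  have hgt : IsPPow t g := IsPPow.of_mem T.isPGroup' hgT
  have hgN : g ∉ N0 := fun hg => hgT1 (hTN.le ⟨hgT, hg⟩)
  have hgc : g ∉ Subgroup.center G := fun hz => hgT1 ⟨hgT, center_le_cen u hz⟩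
  have hsmall : (Nat.card (cen u)).factorization t =
      (Nat.card (Subgroup.center G)).factorization t + 1 := by
    have h1 : (Nat.card (cen g ⊓ N0 : Subgroup G)).factorization t ≤
        (Nat.card (Subgroup.center G)).factorization t := by
      by_contra hlt
      obtain ⟨a, ha, hat, hac⟩ := exists_ppow_not_center ht (not_le.1 hlt)
      exact hgN (hcen a ha.2 hat hac (mem_cen_symm ha.1))
    have h2 : Nat.card (cen g) = Nat.card (cen g ⊓ N0 : Subgroup G) * N0.relIndex (cen g) := by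
      rw [← Subgroup.inf_relIndex_left (cen g) N0, ← Subgroup.relIndex_bot_left (cen g ⊓ N0),
        Subgroup.relIndex_mul_relIndex _ _ _ bot_le inf_le_left, Subgroup.relIndex_bot_left]
    have h3 : (N0.relIndex (cen g)).factorization t ≤ N0.index.factorization t :=
      (Nat.factorization_le_iff_dvd (by
        intro h0
        exact Nat.card_pos.ne' (h2.trans (by rw [h0, mul_zero])))
        N0.index_ne_zero_of_finite).2 (Subgroup.relIndex_dvd_index_of_normal N0 (cen g)) t
    have h4 := congrArg (fun k : ℕ => k.factorization t) h2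
    rw [Nat.factorization_mul Nat.card_pos.ne' (by
      intro h0
      exact Nat.card_pos.ne' (h2.trans (by rw [h0, mul_zero]))), Finsupp.add_apply] at h4
    have h5 := fac_index t N0
    have h6 := fac_le_of_le t hDN
    have h7 := h.fac_sum ht htm huc
    have h8 := h.fac_eq ht htm hgc huc
    have h9 := h.fac_center_lt_cen ht htm huc
    omega
  -- `T` is abelian modulo the centre, so `g` also qualifies
  have hTab : ∀ y ∈ (T : Subgroup G), y * g * y⁻¹ * g⁻¹ ∈ Subgroup.center G := by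
    intro y hy
    set Z' := (Subgroup.center G).subgroupOf (T : Subgroup G)
    haveI : Z'.Normal := by
      refine ⟨fun z hz y => ?_⟩
      rw [Subgroup.mem_subgroupOf] at hz ⊢
      exact (inferInstance : (Subgroup.center G).Normal).conj_mem _ hz _
    have hZ : (Nat.card (Subgroup.center G)).factorization t ≤ (Nat.card Z').factorization t := by
      obtain ⟨Q⟩ := (inferInstance : Nonempty (Sylow t (Subgroup.center G)))
      have hle : Q.1.map (Subgroup.center G).subtype ≤ Subgroup.center G ⊓ (T : Subgroup G) := by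
        rintro _ ⟨a, ha, rfl⟩
        refine ⟨a.2, mem_of_normalizes ht T.isPGroup' le_top ?_
          (IsPPow.of_mem (Q.isPGroup'.map _) (Subgroup.mem_map_of_mem _ ha)) (Subgroup.mem_top _)
          (mem_normalizer_of_commute fun z _ => mem_cen.2
            (Subgroup.mem_center_iff.1 a.2 z).symm)⟩
        rw [Subgroup.card_top, T.card_eq_multiplicity, ht.factorization_pow, Finsupp.single_eq_same]
      have h1 := fac_le_of_le t hle
      rw [Subgroup.card_map_of_injective (Subgroup.center G).subtype_injective,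
        Q.card_eq_multiplicity, ht.factorization_pow, Finsupp.single_eq_same] at h1
      refine h1.trans (le_of_eq ?_)
      rw [← Subgroup.subgroupOf_map_subtype, Subgroup.card_map_of_injective (Subgroup.subtype_injective _)]
    have hq2 : Nat.card ((T : Subgroup G) ⧸ Z') ∣ t ^ 2 := by
      obtain ⟨k, hk⟩ := (T.isPGroup'.to_quotient Z').exists_card_eq
      have h1 := Subgroup.card_eq_card_quotient_mul_card_subgroup Z'
      have h2 := congrArg (fun k => k.factorization t) h1
      simp only [Nat.factorization_mul Nat.card_pos.ne' Nat.card_pos.ne', Finsupp.add_apply] at h2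
      rw [hk, T.card_eq_multiplicity, ht.factorization_pow, ht.factorization_pow,
        Finsupp.single_eq_same, Finsupp.single_eq_same] at h2
      rw [hk]
      refine pow_dvd_pow t ?_
      have h7 := h.fac_sum ht htm huc
      omega
    obtain ⟨k, hk2, hk⟩ := (Nat.dvd_prime_pow ht).1 hq2
    have hab : ∀ a b : (T : Subgroup G) ⧸ Z', a * b = b * a := by
      interval_cases k
      · haveI := (Nat.card_eq_one_iff_unique.1 (hk.trans (pow_zero t))).1
        exact fun a b => Subsingleton.elim _ _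
      · haveI := isCyclic_of_prime_card (hk.trans (pow_one t))
        exact fun a b => mul_comm' a b
      · haveI := IsPGroup.isMulCommutative_of_card_eq_prime_sq hk
        exact fun a b => mul_comm' a b
    have h2 : QuotientGroup.mk' Z' (⟨y, hy⟩ * ⟨g, hgT⟩ * ⟨y, hy⟩⁻¹ * ⟨g, hgT⟩⁻¹) = 1 := by
      rw [map_mul, map_mul, map_mul, map_inv, map_inv, hab (QuotientGroup.mk' Z' ⟨y, hy⟩),
        mul_inv_cancel_right, mul_inv_cancel]
    simpa using Subgroup.mem_subgroupOf.1 ((QuotientGroup.eq_one_iff _).1 h2)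
  obtain ⟨w', V', N0', hwq', hwm', hwV', hVn', hN0n', hN0', hVN', hVq', hDN', hNw', hTN', hTw', hfac',
    hrel', hcen'⟩ := h.package hno htm hq hqm hgood T hgT hgc hTab
  haveI := hVn'
  haveI := hN0n'
  have hgw : g ∈ cen w' := hNw' (hDN' (mem_cen_self g))
  have hgw0 : g ∉ cen w := fun hh => hgT1 (hTw.le ⟨hgT, hh⟩)
  have hI : ∀ i ∈ V, i ∈ V' → i ∈ Subgroup.center G := by
    intro i hi hi'
    refine h.center_of_sylow_le htm T ?_
    have hsup : T1 ⊔ Subgroup.zpowers g = (T : Subgroup G) := by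
      refine eq_of_le_of_fac ht (T.isPGroup'.to_le (sup_le inf_le_left (Subgroup.zpowers_le.2 hgT)))
        T.isPGroup' (sup_le inf_le_left (Subgroup.zpowers_le.2 hgT)) ?_
      have h1 : (Nat.card T1).factorization t <
          (Nat.card (T1 ⊔ Subgroup.zpowers g : Subgroup G)).factorization t := by
        by_contra hle
        have := eq_of_le_of_fac ht (T.isPGroup'.to_le inf_le_left)
          (T.isPGroup'.to_le (sup_le inf_le_left (Subgroup.zpowers_le.2 hgT)))
          (le_sup_left : T1 ≤ T1 ⊔ Subgroup.zpowers g) (not_lt.1 hle)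
        exact hgT1 (this.ge (Subgroup.mem_sup_right (Subgroup.mem_zpowers g)))
      rw [T.card_eq_multiplicity, ht.factorization_pow, Finsupp.single_eq_same]
      have h2 := h.fac_sum ht htm huc
      omega
    rw [← hsup]
    refine sup_le (fun y hy => mem_cen.2 ?_) (Subgroup.zpowers_le.2 (mem_cen.2 ?_))
    · exact Subgroup.mem_centralizer_iff.1 (hN0.le (hDN hy.2)) i hi
    · exact Subgroup.mem_centralizer_iff.1 (hN0'.le (hDN' (mem_cen_self g))) i hi'
  have hv : w * w' ∉ Subgroup.center G := by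
    intro hz
    refine hgw0 ?_
    have h1 : cen w' = cen w⁻¹ := by
      rw [show w' = w⁻¹ * (w * w') by group, cen_mul_center _ hz]
    have h2 : cen w⁻¹ ≤ cen w :=
      cen_le_of_mem_zpowers (by
        have := Subgroup.inv_mem _ (Subgroup.mem_zpowers (w⁻¹))
        rwa [inv_inv] at this)
    exact h2 (h1 ▸ hgw)
  obtain ⟨k, hk, hkt, hkc⟩ := h.exists_ppow_cen ht htm hv
  have hconjk : (k * w * k⁻¹) * (k * w' * k⁻¹) = w * w' := by
    calc (k * w * k⁻¹) * (k * w' * k⁻¹) = k * (w * w') * k⁻¹ := by group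
      _ = (w * w') * k * k⁻¹ := by rw [mem_cen.1 hk]
      _ = w * w' := mul_inv_cancel_right _ _
  set i := w⁻¹ * (k * w * k⁻¹) with hi_def
  have hi : i ∈ Subgroup.center G := by
    refine hI i (V.mul_mem (V.inv_mem hwV) (hVn.conj_mem w hwV k)) ?_
    have : i = w' * (k * w' * k⁻¹)⁻¹ := by
      rw [eq_mul_inv_iff_mul_eq, hi_def, mul_assoc, hconjk, inv_mul_cancel_left]
    rw [this]
    exact V'.mul_mem hwV' (V'.inv_mem (hVn'.conj_mem w' hwV' k))
  have hkw : k ∈ cen w := by
    refine mem_cen_of_coprime ?_ (hkt.coprime ht hq hqt.symm hwq)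
    rw [show k * w * k⁻¹ * w⁻¹ = w * i * w⁻¹ by rw [hi_def]; group]
    exact (inferInstance : (Subgroup.center G).Normal).conj_mem _ hi w
  have hkw' : k ∈ cen w' := by
    refine mem_cen_of_coprime ?_ (hkt.coprime ht hq hqt.symm hwq')
    have : k * w' * k⁻¹ = i⁻¹ * w' := by
      rw [eq_inv_mul_iff_mul_eq, hi_def, mul_assoc, hconjk, inv_mul_cancel_left]
    rw [this, mul_inv_cancel_right]
    exact inv_mem hi
  have hk0 : k ∈ N0 := ppow_mem_normal ht hNw (by
    rw [h.fac_eq ht htm hwc huc]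
    exact fac_le_of_le t hDN) hkt hkw
  have hk0' : k ∈ N0' := ppow_mem_normal ht hNw' (by
    rw [h.fac_eq ht htm (h.not_center_of_m hwm') hgc]
    exact fac_le_of_le t hDN') hkt hkw'
  obtain ⟨y, hy⟩ := exists_conj_mem T hkt
  have h1 : y * k * y⁻¹ ∈ cen g := (hTN'.le ⟨hy, hN0n'.conj_mem k hk0' y⟩).2
  exact hgN (hcen _ (hN0n.conj_mem k hk0 y) (hkt.conj y) (not_center_conj hkc y) (mem_cen_symm h1))

end Triple

end Cfsg.Agent.ClassTriple
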