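import Cfsg.Agent.Lib.ClassSizeTriple.Abelian
import Cfsg.Agent.Lib.ClassSizeTriple.Two

/-!
# The structure of groups with class sizes `1`, `m`, `m n`
-/

set_option autoImplicit false
set_option linter.style.haveILetI false

namespace Cfsg.Agent.ClassTriple

open scoped commutatorElement

universe u

variable {G : Type u} [Group G] [Finite G] {m n : ℕ}

/-- The commutator subgroup of a group generated modulo the centre by two elements. -/
lemma card_commutator_two {T : Type u} [Group T] [Finite T] {t : ℕ} (ht : t.Prime) (g c : T)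
    (hz : ∀ y : T, y * (g * c * g⁻¹ * c⁻¹) = (g * c * g⁻¹ * c⁻¹) * y) (hct : ∀ y : T, y * c ^ t = c ^ t * y)
    (hne : g * c * g⁻¹ * c⁻¹ ≠ 1)
    (hgen : ∀ y : T, ∃ (i j : ℕ) (w : T), (∀ v : T, v * w = w * v) ∧ y = g ^ i * c ^ j * w) :
    Nat.card (commutator T) = t := by
  haveI := Fact.mk ht
  set z := g * c * g⁻¹ * c⁻¹ with hzdef
  haveI hZn : (Subgroup.zpowers z).Normal := by
    refine ⟨fun x hx y => ?_⟩
    obtain ⟨k, rfl⟩ := Subgroup.mem_zpowers_iff.1 hx
    rw [((show Commute y z from hz y).zpow_right k).eq, mul_inv_cancel_right]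
    exact Subgroup.zpow_mem_zpowers z k
  have hle : commutator T ≤ Subgroup.zpowers z := by
    set π := QuotientGroup.mk' (Subgroup.zpowers z)
    have hgc : π g * π c = π c * π g := by
      have h1 : π (g * c * g⁻¹ * c⁻¹) = 1 :=
        (QuotientGroup.eq_one_iff z).2 (Subgroup.mem_zpowers z)
      rw [map_mul, map_mul, map_mul, map_inv, map_inv] at h1
      exact commutatorElement_eq_one_iff_mul_comm.1 (by rw [commutatorElement_def]; exact h1)
    have hab : ∀ a b : T ⧸ Subgroup.zpowers z, a * b = b * a := by
      intro a b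
      obtain ⟨a, rfl⟩ := QuotientGroup.mk'_surjective _ a
      obtain ⟨b, rfl⟩ := QuotientGroup.mk'_surjective _ b
      obtain ⟨i, j, w, hw, rfl⟩ := hgen a
      obtain ⟨i', j', w', hw', rfl⟩ := hgen b
      have cw : ∀ v, Commute (π v) (π w) := fun v => (show Commute v w from hw v).map π
      have cw' : ∀ v, Commute (π v) (π w') := fun v => (show Commute v w' from hw' v).map π
      have cg : Commute (π g) (π c) := hgc
      simp only [map_mul, map_pow]
      have h1 : Commute (π g ^ i * π c ^ j) (π g ^ i' * π c ^ j') :=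
        (((Commute.refl _).pow_pow i i').mul_right (cg.pow_pow i j')).mul_left
          ((cg.symm.pow_pow j i').mul_right ((Commute.refl _).pow_pow j j'))
      have h2 : Commute (π g ^ i * π c ^ j) (π w') :=
        ((cw' g).pow_left i).mul_left ((cw' c).pow_left j)
      have h3 : Commute (π w) (π g ^ i' * π c ^ j' * π w') :=
        (((cw g).symm.pow_right i').mul_right ((cw c).symm.pow_right j')).mul_right (cw w').symm
      exact ((h1.mul_right h2).mul_left h3).eq
    rw [commutator_def, Subgroup.commutator_le]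
    intro a _ b _
    refine (QuotientGroup.eq_one_iff _).1 ?_
    show π ⁅a, b⁆ = 1
    rw [map_commutatorElement, commutatorElement_eq_one_iff_mul_comm]
    exact hab _ _
  have hzt : z ^ t = 1 := by
    have h1 : g * c * g⁻¹ = z * c := by rw [hzdef, inv_mul_cancel_right]
    have h2 : (g * c * g⁻¹) ^ t = c ^ t := by rw [conj_pow, hct g, mul_inv_cancel_right]
    rw [h1, (show Commute z c from (hz c).symm).mul_pow] at h2
    exact mul_eq_right.1 h2
  have hzo : orderOf z = t := orderOf_eq_prime hzt hne
  have hmem : z ∈ commutator T := by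
    rw [commutator_def, hzdef, ← commutatorElement_def]
    exact Subgroup.commutator_mem_commutator (Subgroup.mem_top g) (Subgroup.mem_top c)
  rw [le_antisymm hle (Subgroup.zpowers_le.2 hmem), Nat.card_zpowers, hzo]

namespace Triple

variable (h : Triple G m n)
include h

theorem shape' : Shape G m n := by
  by_contra hs
  refine h.false_of_no_ppow fun t ht htm a ha he => hs (h.shape ht htm ha he)

theorem main : m.Prime ∧ m ∣ n - 1 ∧
    (∃ M : Subgroup G, M.Normal ∧
      (M : Set G) = {x : G | (Subgroup.centralizer ({x} : Set G)).index = 1 ∨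
        (Subgroup.centralizer ({x} : Set G)).index = m} ∧ M.index = m ∧ IsMulCommutative M) ∧
    (∃ N : Subgroup G, N.Normal ∧ (Nat.card N).Coprime m ∧ ∃ a : ℕ, N.index = m ^ a) ∧
    ∀ P : Sylow m G, Nat.card (commutator (P : Subgroup G)) = m := by
  obtain ⟨t, b, C, ht, hm, hCn, hCidx, hab, hmem, hcenC⟩ := h.shape'.ex
  haveI := Fact.mk ht
  haveI := hCn
  have hb : b ≠ 0 := fun e => by have := h.one_lt_m; rw [hm, e, pow_zero] at this; omega
  have htm : t ∣ m := hm ▸ dvd_pow_self t hb
  have hfm : m.factorization t = b := by rw [hm, ht.factorization_pow, Finsupp.single_eq_same]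
  have hZC : Subgroup.center G ≤ C := fun z hz => (hmem z).2 (Or.inl (sz_eq_one_iff.2 hz))
  obtain ⟨x, hx⟩ := h.ex_m
  have hxC : x ∈ C := (hmem x).2 (Or.inr hx)
  have hxc := h.not_center_of_m hx
  have hcx : cen x = C := hcenC x hxC hxc
  -- Sylow subgroups of `G`
  have hTfac : ∀ T : Sylow t G, (Nat.card ((T : Subgroup G) ⊓ C : Subgroup G)).factorization t =
      (Nat.card C).factorization t := by
    intro T
    refine le_antisymm (fac_le_of_le t inf_le_right) ?_
    have hle : (T : Subgroup G) ≤ Subgroup.normalizer (C : Set G) := by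
      rw [Subgroup.normalizer_eq_top C]; exact le_top
    have h1 := congrArg (fun k => k.factorization t) (SolvBasic.card_sup_mul_card_inf hle)
    simp only [Nat.factorization_mul Nat.card_pos.ne' Nat.card_pos.ne', Finsupp.add_apply] at h1
    rw [inf_comm, T.card_eq_multiplicity, ht.factorization_pow, Finsupp.single_eq_same] at h1
    have h2 := fac_le_of_le t (le_top : C ⊔ (T : Subgroup G) ≤ ⊤)
    rw [Subgroup.card_top] at h2
    omega
  have hfG : (Nat.card C).factorization t + b = (Nat.card G).factorization t := by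
    rw [← fac_index t C, hCidx, hfm]
  obtain ⟨T0⟩ := (inferInstance : Nonempty (Sylow t G))
  have hTout : ∀ T : Sylow t G, ∃ g ∈ (T : Subgroup G), g ∉ C := by
    intro T
    refine SetLike.not_le_iff_exists.1 fun hle => ?_
    have h1 := fac_le_of_le t hle
    rw [T.card_eq_multiplicity, ht.factorization_pow, Finsupp.single_eq_same] at h1
    omega
  have hspec : ∀ T : Sylow t G, ∃ c ∈ (T : Subgroup G) ⊓ C, c ∉ Subgroup.center G ∧
      c ^ t ∈ Subgroup.center G ∧ ∀ y ∈ (T : Subgroup G), y * c * y⁻¹ * c⁻¹ ∈ Subgroup.center G := by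
    intro T
    refine exists_special ht T.isPGroup' inf_le_left (fun y hy => ?_) ?_
    · rw [Subgroup.mem_normalizer_iff]
      intro g
      constructor
      · exact fun hg => ⟨(T : Subgroup G).mul_mem ((T : Subgroup G).mul_mem hy hg.1)
          ((T : Subgroup G).inv_mem hy), hCn.conj_mem g hg.2 y⟩
      · intro hg
        have h2 := hCn.conj_mem _ hg.2 y⁻¹
        rw [show y⁻¹ * (y * g * y⁻¹) * y⁻¹⁻¹ = g by group] at h2
        have h3 := (T : Subgroup G).mul_mem ((T : Subgroup G).mul_mem
          ((T : Subgroup G).inv_mem hy) hg.1) hy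
        rw [show y⁻¹ * (y * g * y⁻¹) * y = g by group] at h3
        exact ⟨h3, h2⟩
    · intro hle
      have h1 := fac_le_of_le t hle
      rw [hTfac T, ← hcx] at h1
      exact absurd (h.fac_center_lt_cen ht htm hxc) (not_lt.2 h1)
  -- `T` induces a cyclic group of exponent `t` on `C`
  obtain ⟨s, hs, hsn, hsm⟩ := h.exists_prime_dvd_n
  haveI := Fact.mk hs
  have hst : s ≠ t := fun e => hsm (e ▸ htm)
  have hexp : ∀ (T : Sylow t G), ∀ e ∈ (T : Subgroup G), e ^ t ∈ C := by
    intro T e he
    obtain ⟨c, hc, hcc, hcp, hce⟩ := hspec T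
    exact hcenC c hc.2 hcc ▸ pow_commute (hce e he) hcp
  have hout : ∀ {g k : G}, g ∉ C → k ∈ C → g ∈ cen k → k ∈ Subgroup.center G := by
    intro g k hg hk hgk
    by_contra hkc
    exact hg (hcenC k hk hkc ▸ hgk)
  obtain ⟨g, hgT, hgC⟩ := hTout T0
  obtain ⟨S, hS⟩ := exists_sylow_le (p := s) (H := C) (by rw [hCidx]; exact hsm)
  obtain ⟨g0, hg0⟩ := h.ex_mn
  obtain ⟨v, hvS, hvc⟩ := SetLike.not_le_iff_exists.1
    (show ¬ (S : Subgroup G) ≤ Subgroup.center G from fun hle =>
      not_dvd_sz S (hle.trans (center_le_cen g0)) (by rw [hg0]; exact dvd_mul_of_dvd_right hsn m))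
  have hvs : IsPPow s v := IsPPow.of_mem S.isPGroup' hvS
  have hb1 : b = 1 := by
    set K := ppart C hab s
    have hKn : Subgroup.normalizer (C : Set G) ≤ Subgroup.normalizer (K : Set G) :=
      normalizer_le_normalizer_ppart s
    let ι : (T0 : Subgroup G) →* Subgroup.normalizer (C : Set G) :=
      (T0 : Subgroup G).subtype.codRestrict _ fun y => by
        rw [Subgroup.normalizer_eq_top C]; exact Subgroup.mem_top _
    have hker : C.subgroupOf (T0 : Subgroup G) ≤ ((actHom C K hKn).comp ι).ker := fun y hy =>
      dIn_le_ker C K (ppart_le s) hKn hab (Subgroup.mem_subgroupOf.2 (Subgroup.mem_subgroupOf.1 hy))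
    haveI : (C.subgroupOf (T0 : Subgroup G)).Normal := hCn.subgroupOf _
    set E := (T0 : Subgroup G) ⧸ C.subgroupOf (T0 : Subgroup G)
    let ρ : E →* MulAut ↥(bar K) := QuotientGroup.lift _ _ hker
    haveI := bar_nontrivial K (show v ∈ K from ⟨hS hvS, hvs⟩) hvc
    have hfpf : ∀ e : E, e ≠ 1 → ∀ a, ρ e a = a → a = 1 := by
      intro e he a hfix
      obtain ⟨y, rfl⟩ := QuotientGroup.mk'_surjective _ e
      obtain ⟨k, hk, hka⟩ := a.2
      by_contra hne
      have h1 := congrArg Subtype.val hfix
      change QuotientGroup.mk' (Subgroup.center G) (y : G) * (a : G ⧸ Subgroup.center G) *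
        (QuotientGroup.mk' (Subgroup.center G) (y : G))⁻¹ = a at h1
      rw [← hka, ← map_mul, ← map_inv, ← map_mul] at h1
      have h2 : (y : G) * k * (y : G)⁻¹ * k⁻¹ ∈ Subgroup.center G := by
        rw [← QuotientGroup.eq_one_iff]
        show QuotientGroup.mk' (Subgroup.center G) _ = 1
        rw [map_mul, h1, map_inv, mul_inv_cancel]
      have hyC : (y : G) ∉ C := fun hy => he ((QuotientGroup.eq_one_iff y).2
        (Subgroup.mem_subgroupOf.2 hy))
      have := hout hyC hk.1 (mem_cen_of_coprime h2
        ((IsPPow.of_mem T0.isPGroup' y.2).coprime ht hs hst.symm hk.2))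
      exact hne (Subtype.ext (by rw [← hka]; exact (QuotientGroup.eq_one_iff k).2 this))
    have hexpE : ∀ e : E, e ^ t = 1 := by
      intro e
      obtain ⟨y, rfl⟩ := QuotientGroup.mk'_surjective _ e
      rw [← map_pow]
      exact (QuotientGroup.eq_one_iff _).2 (Subgroup.mem_subgroupOf.2 (by
        simpa using hexp T0 y y.2))
    have hcardE : Nat.card E = t ^ b := by
      have h1 : Nat.card ((T0 : Subgroup G) ⊓ C : Subgroup G) * C.relIndex (T0 : Subgroup G) =
          Nat.card (T0 : Subgroup G) := by
        rw [← Subgroup.inf_relIndex_left (T0 : Subgroup G) C,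
          ← Subgroup.relIndex_bot_left ((T0 : Subgroup G) ⊓ C),
          Subgroup.relIndex_mul_relIndex _ _ _ bot_le inf_le_left, Subgroup.relIndex_bot_left]
      rw [card_eq_pow_fac ht (T0.isPGroup'.to_le inf_le_left), hTfac T0, T0.card_eq_multiplicity,
        ← hfG, pow_add] at h1
      exact (Subgroup.index_eq_card _).symm.trans
        (Nat.eq_of_mul_eq_mul_left (pow_pos ht.pos _) h1)
    -- a central element of order `t` generates
    haveI : Nontrivial E := Finite.one_lt_card_iff_nontrivial.1 (hcardE ▸ Nat.one_lt_pow hb ht.one_lt)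
    haveI := (T0.isPGroup'.to_quotient (C.subgroupOf (T0 : Subgroup G))).center_nontrivial
    obtain ⟨⟨z, hzc⟩, hz1⟩ := exists_ne (1 : Subgroup.center E)
    have hz : orderOf z = t := orderOf_eq_prime (hexpE z) fun e => hz1 (Subtype.ext e)
    have hall : ∀ e : E, e ∈ Subgroup.zpowers z := by
      intro e
      set A := Subgroup.closure ({z, e} : Set E)
      haveI : IsMulCommutative A := Subgroup.isMulCommutative_closure (by
        rintro a (rfl | rfl) c (rfl | rfl)
        · rfl
        · exact (Subgroup.mem_center_iff.1 hzc c).symm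
        · exact Subgroup.mem_center_iff.1 hzc a
        · rfl)
      have hcyc : IsCyclic A := isCyclic_of_fpf_comm (ρ.comp A.subtype)
        fun a ha => hfpf a fun e' => ha (Subtype.ext e')
      obtain ⟨a, ha⟩ := hcyc.exists_ofOrder_eq_natCard
      have hcardA : Nat.card A ≤ Nat.card (Subgroup.zpowers z) := by
        rw [Nat.card_zpowers, hz, ← ha]
        exact Nat.le_of_dvd ht.pos (orderOf_dvd_of_pow_eq_one (Subtype.ext (hexpE a)))
      rw [Subgroup.eq_of_le_of_card_ge (Subgroup.zpowers_le.2
        (Subgroup.subset_closure (Set.mem_insert z _)) : Subgroup.zpowers z ≤ A) hcardA]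
      exact Subgroup.subset_closure (Set.mem_insert_of_mem z rfl)
    have : Nat.card E ≤ t := by
      rw [← hz, ← Nat.card_zpowers, (Subgroup.eq_top_iff' _).2 hall, Subgroup.card_top]
    rw [hcardE] at this
    rcases Nat.lt_or_ge b 2 with hlt | hge
    · omega
    · exact absurd this (not_le.2 (lt_self_pow₀ ht.one_lt hge))
  subst hb1
  rw [pow_one] at hm
  subst hm
  -- an element outside
  have hgt : IsPPow m g := IsPPow.of_mem T0.isPGroup' hgT
  have hgc : g ∉ Subgroup.center G := fun hz => hgC (hZC hz)
  have hgmn : sz g = m * n := (h.sz_of_not_center hgc).resolve_left fun e => hgC ((hmem g).2 (Or.inr e))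
  have hinf : cen g ⊓ C = Subgroup.center G :=
    le_antisymm (fun k hk => hout hgC hk.2 (mem_cen_symm hk.1)) (le_inf (center_le_cen g) hZC)
  have hcardg : Nat.card (cen g) = Nat.card (Subgroup.center G) * m := by
    have h1 : Nat.card (cen g ⊓ C : Subgroup G) * C.relIndex (cen g) = Nat.card (cen g) := by
      rw [← Subgroup.inf_relIndex_left (cen g) C, ← Subgroup.relIndex_bot_left (cen g ⊓ C),
        Subgroup.relIndex_mul_relIndex _ _ _ bot_le inf_le_left, Subgroup.relIndex_bot_left]
    rw [hinf] at h1
    rw [← h1]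
    congr 1
    rcases (Nat.dvd_prime ht).1 (hCidx ▸ Subgroup.relIndex_dvd_index_of_normal C (cen g)) with e | e
    · exact absurd (Subgroup.relIndex_eq_one.1 e (mem_cen_self g)) hgC
    · exact e
  have hcardC : Nat.card C = Nat.card (Subgroup.center G) * m * n := by
    have h1 := (cen g).card_mul_index
    have h2 := C.card_mul_index
    rw [hcardg, show (cen g).index = m * n from hgmn] at h1
    rw [hCidx] at h2
    exact Nat.eq_of_mul_eq_mul_right ht.pos (by rw [h2, ← h1]; ring)
  have hfC : (Nat.card C).factorization m = (Nat.card (Subgroup.center G)).factorization m + 1 := by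
    rw [hcardC, Nat.factorization_mul (mul_ne_zero Nat.card_pos.ne' h.m_ne_zero) h.n_ne_zero,
      Nat.factorization_mul Nat.card_pos.ne' h.m_ne_zero, Finsupp.add_apply, Finsupp.add_apply,
      ht.factorization_self, Nat.factorization_eq_zero_of_not_dvd (h.not_dvd_n ht dvd_rfl), add_zero]
  -- the normal complement
  obtain ⟨F⟩ := exists_factor (C := C) ht fun a ha _ hd => by
    rw [Subgroup.relIndex_eq_one.2 (fun y hy => mem_cen.2 (hab a ha y hy))] at hd
    exact ht.not_dvd_one hd
  have hHn : F.H.Normal := ⟨fun a ha y => F.mem_H _ (hCn.conj_mem a (F.leH ha) y) (by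
    rw [show y * a * y⁻¹ = MulAut.conj y a from rfl,
      show orderOf (MulAut.conj y a) = orderOf a from
        orderOf_injective (MulAut.conj y).toMonoidHom (MulAut.conj y).injective a]
    exact F.cop a ha)⟩
  have hnH : F.H ≤ Subgroup.normalizer (F.P : Set G) :=
    fun y hy => mem_normalizer_of_commute (F.cen_H hy)
  have hdisj : F.P ⊓ F.H = ⊥ := by
    rw [eq_bot_iff]
    intro a ha
    rw [Subgroup.mem_bot]
    obtain ⟨k, hk⟩ := (IsPPow.of_mem F.isPGroup ha.1).orderOf_eq ht
    have h1 := F.cop a ha.2
    rw [← orderOf_eq_one_iff]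
    exact Nat.eq_one_of_dvd_coprimes (h1.pow_right k) dvd_rfl (dvd_of_eq hk)
  have hCPH : Nat.card C = Nat.card F.P * Nat.card F.H := by
    rw [← SolvBasic.card_sup_of_inf_eq_bot hnH hdisj]
    exact congrArg (fun H : Subgroup G => Nat.card H) (le_antisymm F.gen (sup_le F.leP F.leH))
  obtain ⟨j, hj⟩ := F.isPGroup.exists_card_eq
  have hHcop : (Nat.card F.H).Coprime m := by
    rw [Nat.coprime_comm, ht.coprime_iff_not_dvd]
    intro hd
    obtain ⟨a, ha⟩ := exists_prime_orderOf_dvd_card' (G := F.H) m hd
    have := F.cop a a.2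
    rw [Subgroup.orderOf_coe, ha, Nat.coprime_self] at this
    exact ht.one_lt.ne' this
  refine ⟨ht, ?_, ⟨C, hCn, ?_, hCidx, .of_setLike_mul_comm hab⟩, ⟨F.H, hHn, hHcop, j + 1, ?_⟩, ?_⟩
  · -- `m ∣ n - 1`
    set π := QuotientGroup.mk' (Subgroup.center G)
    haveI : (bar F.H).Normal := Subgroup.Normal.map hHn _ (QuotientGroup.mk'_surjective _)
    letI : MulAction (Subgroup.zpowers g) ↥(bar F.H) :=
      MulAction.compHom _ ((MulAut.conjNormal (H := bar F.H)).comp
        (π.comp (Subgroup.zpowers g).subtype))
    have hfix : MulAction.fixedPoints (Subgroup.zpowers g) ↥(bar F.H) = {1} := by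
      ext a
      constructor
      · intro ha
        obtain ⟨k, hk, hka⟩ := a.2
        have h1 := congrArg Subtype.val (ha ⟨g, Subgroup.mem_zpowers g⟩)
        change (MulAut.conjNormal (π g) a : ↥(bar F.H)).1 = a.1 at h1
        rw [MulAut.conjNormal_apply, ← hka, ← map_mul, ← map_inv, ← map_mul] at h1
        have h2 : g * k * g⁻¹ * k⁻¹ ∈ Subgroup.center G := by
          rw [← QuotientGroup.eq_one_iff]
          show π _ = 1
          rw [map_mul, h1, map_inv, mul_inv_cancel]
        obtain ⟨i, hi⟩ := hgt.orderOf_eq ht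
        have := hout hgC (F.leH hk) (mem_cen_of_coprime h2
          (hi ▸ ((F.cop k hk).symm).pow_left i))
        exact Set.mem_singleton_iff.2 (Subtype.ext (hka ▸ (QuotientGroup.eq_one_iff k).2 this))
      · rintro rfl y
        show MulAut.conjNormal (π (y : G)) 1 = 1
        exact map_one _
    have hmod := (hgt.isPGroup_zpowers ht).card_modEq_card_fixedPoints ↥(bar F.H)
    rw [hfix, Nat.card_coe_set_eq, Set.ncard_singleton] at hmod
    -- `#(bar F.H) = n`
    set K := Nat.card ↥(bar F.H)
    set R := (Subgroup.center G).relIndex F.H with hR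
    have hKR : K = R := by
      have := Subgroup.relIndex_ker (K := F.H) π
      rw [QuotientGroup.ker_mk'] at this
      exact this.symm
    have hZH : Nat.card F.H = Nat.card (Subgroup.center G ⊓ F.H : Subgroup G) * K := by
      rw [hKR, hR, ← Subgroup.inf_relIndex_right,
        ← Subgroup.relIndex_bot_left (Subgroup.center G ⊓ F.H),
        Subgroup.relIndex_mul_relIndex _ _ _ bot_le inf_le_right, Subgroup.relIndex_bot_left]
    have hKdvd : K ∣ Nat.card F.H := Dvd.intro_left _ hZH.symm
    have hcopK : K.Coprime m := hHcop.coprime_dvd_left hKdvd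
    have hbarC : m * n = (Subgroup.center G).relIndex C := by
      have h1 : Nat.card (Subgroup.center G) * (Subgroup.center G).relIndex C = Nat.card C := by
        rw [← Subgroup.relIndex_bot_left (Subgroup.center G),
          Subgroup.relIndex_mul_relIndex _ _ _ bot_le hZC, Subgroup.relIndex_bot_left]
      exact Nat.eq_of_mul_eq_mul_left Nat.card_pos (h1.trans (by rw [hcardC, mul_assoc])).symm
    have hd1 : K ∣ n := by
      refine hcopK.dvd_of_dvd_mul_left ?_
      have hker := Subgroup.relIndex_ker (K := C) π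
      rw [QuotientGroup.ker_mk'] at hker
      rw [hbarC, hker]
      exact Subgroup.card_dvd_of_le (Subgroup.map_mono F.leH)
    have hd2 : n ∣ K := by
      have hn1 : n ∣ Nat.card F.P * K := by
        have h1 : Nat.card (Subgroup.center G) * (m * n) ∣
            Nat.card (Subgroup.center G) * (Nat.card F.P * K) := by
          rw [← mul_assoc, ← hcardC, hCPH, hZH]
          refine ⟨Nat.card (Subgroup.center G) / Nat.card (Subgroup.center G ⊓ F.H : Subgroup G), ?_⟩
          obtain ⟨e, he⟩ := Subgroup.card_dvd_of_le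
            (inf_le_left : Subgroup.center G ⊓ F.H ≤ Subgroup.center G)
          rw [he, Nat.mul_div_cancel_left _ Nat.card_pos]
          ring
        exact (dvd_mul_left n m).trans (Nat.dvd_of_mul_dvd_mul_left Nat.card_pos h1)
      refine Nat.Coprime.dvd_of_dvd_mul_left ?_ hn1
      rw [hj]
      exact h.cop.symm.pow_right j
    rw [show n = K from Nat.dvd_antisymm hd2 hd1]
    exact (Nat.modEq_iff_dvd' Nat.card_pos).1 hmod.symm
  · ext y; exact hmem y
  · rw [pow_succ, ← hj]
    have h1 := F.H.card_mul_index
    have h2 := C.card_mul_index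
    rw [hCidx, hCPH, ← h1, mul_comm (Nat.card F.P), mul_assoc] at h2
    exact (Nat.eq_of_mul_eq_mul_left Nat.card_pos h2).symm
  · intro T
    obtain ⟨g, hgT, hgC⟩ := hTout T
    obtain ⟨c, hc, hcc, hcp, hce⟩ := hspec T
    refine card_commutator_two ht (⟨g, hgT⟩ : (T : Subgroup G)) ⟨c, hc.1⟩ ?_ ?_ ?_ ?_
    · intro y
      exact Subtype.ext (by simpa using Subgroup.mem_center_iff.1 (hce g hgT) (y : G))
    · intro y
      exact Subtype.ext (by simpa using Subgroup.mem_center_iff.1 hcp (y : G))
    · intro e
      have := congrArg Subtype.val e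
      simp only [Subgroup.coe_mul, Subgroup.coe_inv, Subgroup.coe_one] at this
      exact hgC (hcenC c hc.2 hcc ▸ mem_cen.2 (mul_inv_eq_iff_eq_mul.1 (mul_inv_eq_one.1 this)).symm)
    · intro y
      -- `T ⊓ C` is `⟨c⟩` modulo the centre, and `g` generates `T` over it
      set P := (T : Subgroup G) ⊓ C with hP
      have hPg : P ⊔ Subgroup.zpowers g = (T : Subgroup G) := by
        have hle : P ⊔ Subgroup.zpowers g ≤ (T : Subgroup G) :=
          sup_le inf_le_left (Subgroup.zpowers_le.2 hgT)
        refine eq_of_le_of_fac ht (T.isPGroup'.to_le hle) T.isPGroup' hle ?_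
        have h1 : (Nat.card P).factorization m <
            (Nat.card (P ⊔ Subgroup.zpowers g : Subgroup G)).factorization m := by
          by_contra hlt
          have := eq_of_le_of_fac ht (T.isPGroup'.to_le inf_le_left) (T.isPGroup'.to_le hle)
            (le_sup_left : P ≤ P ⊔ Subgroup.zpowers g) (not_lt.1 hlt)
          exact hgC (this.ge (Subgroup.mem_sup_right (Subgroup.mem_zpowers g))).2
        rw [hP, hTfac T] at h1
        rw [T.card_eq_multiplicity, ht.factorization_pow, Finsupp.single_eq_same, ← hfG]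
        rw [hP]
        omega
      have hgP : Subgroup.zpowers g ≤ Subgroup.normalizer (P : Set G) := by
        refine Subgroup.zpowers_le.2 (Subgroup.mem_normalizer_iff.2 fun a => ?_)
        constructor
        · exact fun ha => ⟨(T : Subgroup G).mul_mem ((T : Subgroup G).mul_mem hgT ha.1)
            ((T : Subgroup G).inv_mem hgT), hCn.conj_mem a ha.2 g⟩
        · intro ha
          have h2 := hCn.conj_mem _ ha.2 g⁻¹
          rw [show g⁻¹ * (g * a * g⁻¹) * g⁻¹⁻¹ = a by group] at h2
          have h3 := (T : Subgroup G).mul_mem ((T : Subgroup G).mul_mem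
            ((T : Subgroup G).inv_mem hgT) ha.1) hgT
          rw [show g⁻¹ * (g * a * g⁻¹) * g = a by group] at h3
          exact ⟨h3, h2⟩
      obtain ⟨p, hp, q, hq, hy⟩ := (SolvBasic.mem_sup_iff_of_le_normalizer hgP).1
        (show (y : G) ∈ P ⊔ Subgroup.zpowers g from hPg.symm ▸ y.2)
      -- move the power of `g` to the left
      set p' := q⁻¹ * p * q
      have hp' : p' ∈ P := by
        have := (Subgroup.mem_normalizer_iff''.1 (hgP hq) p).1 hp
        exact this
      -- `P` modulo the centre is generated by `c`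
      have hPc : P ≤ Subgroup.zpowers c ⊔ ((T : Subgroup G) ⊓ Subgroup.center G) := by
        set W := (T : Subgroup G) ⊓ Subgroup.center G
        have hle : Subgroup.zpowers c ⊔ W ≤ P :=
          sup_le (Subgroup.zpowers_le.2 hc) (inf_le_inf_left _ hZC)
        refine (eq_of_le_of_fac ht (T.isPGroup'.to_le (hle.trans inf_le_left))
          (T.isPGroup'.to_le inf_le_left) hle ?_).ge
        rw [hTfac T, hfC]
        have hW : (Nat.card (Subgroup.center G)).factorization m ≤ (Nat.card W).factorization m := by
          obtain ⟨Q⟩ := (inferInstance : Nonempty (Sylow m (Subgroup.center G)))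
          have hle' : Q.1.map (Subgroup.center G).subtype ≤ W := by
            rintro _ ⟨a, ha, rfl⟩
            refine ⟨mem_of_normalizes ht T.isPGroup' le_top ?_
              (IsPPow.of_mem (Q.isPGroup'.map _) (Subgroup.mem_map_of_mem _ ha)) (Subgroup.mem_top _)
              (mem_normalizer_of_commute fun z _ => mem_cen.2
                (Subgroup.mem_center_iff.1 a.2 z).symm), a.2⟩
            rw [Subgroup.card_top, T.card_eq_multiplicity, ht.factorization_pow, Finsupp.single_eq_same]
          have h1 := fac_le_of_le m hle'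
          rwa [Subgroup.card_map_of_injective (Subgroup.center G).subtype_injective,
            Q.card_eq_multiplicity, ht.factorization_pow, Finsupp.single_eq_same] at h1
        by_contra hlt
        have := eq_of_le_of_fac ht (T.isPGroup'.to_le inf_le_left)
          (T.isPGroup'.to_le (hle.trans inf_le_left))
          (le_sup_right : W ≤ Subgroup.zpowers c ⊔ W) ((Nat.le_of_lt_succ (not_le.1 hlt)).trans hW)
        exact hcc (this.ge (Subgroup.mem_sup_left (Subgroup.mem_zpowers c))).2
      have hcn : (T : Subgroup G) ⊓ Subgroup.center G ≤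
          Subgroup.normalizer ((Subgroup.zpowers c : Subgroup G) : Set G) :=
        fun w hw => mem_normalizer_of_commute fun a _ =>
          mem_cen.2 (Subgroup.mem_center_iff.1 hw.2 a).symm
      obtain ⟨a, ha, w, hw, hpaw⟩ := (SolvBasic.mem_sup_iff_of_le_normalizer hcn).1 (hPc hp')
      obtain ⟨i, hi⟩ := mem_powers_iff_mem_zpowers.2 hq
      obtain ⟨k, hk⟩ := mem_powers_iff_mem_zpowers.2 ha
      simp only at hi hk
      refine ⟨i, k, ⟨w, hw.1⟩, fun v => Subtype.ext (Subgroup.mem_center_iff.1 hw.2 v),
        Subtype.ext ?_⟩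
      simp only [Subgroup.coe_mul, SubmonoidClass.coe_pow]
      rw [hy, hi, hk, mul_assoc, ← hpaw]
      simp [p', mul_assoc]

end Triple

end Cfsg.Agent.ClassTriple
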