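import Cfsg.Agent.Lib.ClassSizeTriple.Split
import Cfsg.Agent.Lib.ClassSizeTriple.PrimePower

/-!
# An element of class size `m` whose order involves a prime of `m` has abelian centralizer
-/

set_option autoImplicit false
set_option linter.style.haveILetI false

namespace Cfsg.Agent.ClassTriple

universe u

variable {G : Type u} [Group G] [Finite G] {m n : ℕ}

namespace Triple

variable (h : Triple G m n) {t : ℕ} {x : G}
include h

lemma relIndex_cen_x (ht : t.Prime) (hx : IsPPow t x) (hxm : sz x = m) {g : G} (hg : g ∈ cen x)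
    (hco : (orderOf g).Coprime t) :
    (cen g).relIndex (cen x) = 1 ∨ (cen g).relIndex (cen x) = n := by
  obtain ⟨k, hk⟩ := hx.orderOf_eq ht
  have hcomm : Commute x g := mem_cen.1 hg
  have heq := cen_mul_eq hcomm (by rw [hk]; exact hco.symm.pow_left k)
  have hle : cen (x * g) ≤ cen x := heq ▸ inf_le_left
  have hnc : x * g ∉ Subgroup.center G := fun hz => h.not_center_of_m hxm (cen_eq_top_iff.1
    (top_le_iff.1 ((cen_eq_top_iff.2 hz).symm ▸ hle)))
  have hmul := Subgroup.relIndex_mul_index hle
  rw [heq, Subgroup.inf_relIndex_left] at hmul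
  rw [show (cen x).index = m from hxm] at hmul
  rcases h.sz_of_not_center hnc with e | e
  · left
    rw [show (cen x ⊓ cen g).index = m from heq ▸ e] at hmul
    exact Nat.eq_of_mul_eq_mul_right (Nat.pos_of_ne_zero h.m_ne_zero) (hmul.trans (one_mul m).symm)
  · right
    rw [show (cen x ⊓ cen g).index = m * n from heq ▸ e, mul_comm m n] at hmul
    exact Nat.eq_of_mul_eq_mul_right (Nat.pos_of_ne_zero h.m_ne_zero) hmul

lemma factor_x (ht : t.Prime) (htm : t ∣ m) (hx : IsPPow t x) (hxm : sz x = m) :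
    Nonempty (Factor (cen x) t) :=
  exists_factor ht fun g hg hco hd => by
    rcases h.relIndex_cen_x ht hx hxm hg hco with e | e <;> rw [e] at hd
    · exact ht.not_dvd_one hd
    · exact h.not_dvd_n ht htm hd

lemma cen_le_of_comm_factor (F : Factor (cen x) t) {a : G} (hP : F.P ≤ cen a) (hH : F.H ≤ cen a) :
    cen x ≤ cen a :=
  F.gen.trans (sup_le hP hH)

/-- The `t`-elements of `cen x` have centralizer `cen x`. -/
lemma cen_eq_x (ht : t.Prime) (htm : t ∣ m) (hx : IsPPow t x) (hxm : sz x = m)
    (F : Factor (cen x) t) {a : G} (ha : a ∈ F.P) (hac : a ∉ Subgroup.center G) :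
    cen a = cen x := by
  haveI := Fact.mk ht
  have hat : IsPPow t a := IsPPow.of_mem F.isPGroup ha
  have hxP : x ∈ F.P := F.mem_P x (mem_cen_self x) hx
  obtain ⟨s, hs, hsn, hsm⟩ := h.exists_prime_dvd_n
  haveI := Fact.mk hs
  have hst : s ≠ t := fun e => hsm (e ▸ htm)
  obtain ⟨S, hS⟩ := exists_sylow_le (p := s) (H := cen x) (by rw [show (cen x).index = m from hxm]; exact hsm)
  have hSH : (S : Subgroup G) ≤ F.H := fun w hw => F.mem_H w (hS hw) (by
    obtain ⟨k, hk⟩ := (IsPPow.of_mem S.isPGroup' hw).orderOf_eq hs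
    rw [hk]; exact ((Nat.coprime_primes hs ht).2 hst).pow_left k)
  have ham : sz a = m := (h.sz_of_not_center hac).resolve_right fun e => by
    refine not_dvd_sz S (hSH.trans (F.cen_P ha)) ?_
    rw [e]
    exact dvd_mul_of_dvd_right hsn m
  suffices hle : F.P ≤ cen a from
    ((h.eq_of_m_le hxm (h.cen_le_of_comm_factor F hle (F.cen_P ha)) hac).1).symm
  by_cases hz : ∃ z ∈ F.H, F.H ≤ cen z ∧ z ∉ Subgroup.center G
  · obtain ⟨z, hzH, hzc, hznc⟩ := hz
    have hCz := h.eq_of_m_le hxm (h.cen_le_of_comm_factor F (F.cen_H hzH) hzc) hznc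
    obtain ⟨Fa⟩ := h.factor_x ht htm hat ham
    have hxPa : x ∈ Fa.P := Fa.mem_P x (mem_cen_symm (F.leP ha)) hx
    have hzHa : z ∈ Fa.H := Fa.mem_H z (F.cen_P ha hzH) (F.cop z hzH)
    have hHa : Fa.H ≤ cen z := fun b hb => hzc (F.mem_H b (Fa.cen_P hxPa hb) (Fa.cop b hb))
    have := (h.eq_of_m_le ham (h.cen_le_of_comm_factor Fa (Fa.cen_H hzHa) hHa) hznc).1
    rw [this, ← hCz.1]
    exact F.leP
  · push Not at hz
    obtain ⟨g, hg⟩ := h.ex_mn
    obtain ⟨w, hwS, hwc⟩ := SetLike.not_le_iff_exists.1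
      (show ¬ (S : Subgroup G) ≤ Subgroup.center G from fun hle =>
        not_dvd_sz S (hle.trans (center_le_cen g)) (by rw [hg]; exact dvd_mul_of_dvd_right hsn m))
    have hwp : IsPPow s w := IsPPow.of_mem S.isPGroup' hwS
    have hwmn : sz w = m * n := (h.sz_of_not_center hwc).resolve_left fun e => by
      obtain ⟨y, hy1, hy2⟩ := exists_conj_sylow S hwp (by rw [e]; exact hsm)
      have hzH := hSH hy2
      have hrel : (cen (y * w * y⁻¹)).relIndex (cen x) = 1 := by
        rcases h.relIndex_cen_x ht hx hxm (hS hy2) (F.cop _ hzH) with e' | e'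
        · exact e'
        · exfalso
          have h1 : (S : Subgroup G).relIndex (cen x) ∣ (S : Subgroup G).index :=
            Subgroup.relIndex_dvd_index_of_le hS
          exact S.not_dvd_index ((hsn.trans (e' ▸ Subgroup.relIndex_dvd_of_le_left (cen x) hy1)).trans h1)
      refine hwc ?_
      have := hz _ hzH (F.leH.trans (Subgroup.relIndex_eq_one.1 hrel))
      have h2 := (inferInstance : (Subgroup.center G).Normal).conj_mem _ this y⁻¹
      rwa [show y⁻¹ * (y * w * y⁻¹) * y⁻¹⁻¹ = w by group] at h2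
    have hwH := hSH hwS
    have key : ∀ b : G, IsPPow t b → b ∈ cen w → b ∉ Subgroup.center G →
        cen w ≤ cen b := by
      intro b hb hbw hbc
      have heq := cen_mul_eq (a := b) (b := w) (mem_cen.1 hbw).symm (hb.coprime ht hs hst.symm hwp)
      have hnc : b * w ∉ Subgroup.center G := fun hzz => hwc (cen_eq_top_iff.1
        (top_le_iff.1 ((cen_eq_top_iff.2 hzz).symm ▸ heq ▸ inf_le_right)))
      have := (h.eq_of_le_mn hnc (heq ▸ inf_le_right) hwmn).1
      rw [← this, heq]
      exact inf_le_left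
    have hwx : cen w ≤ cen x := key x hx (F.cen_H hwH hxP) (h.not_center_of_m hxm)
    have hwa : cen w ≤ cen a := key a hat (F.cen_H hwH ha) hac
    exact (F.cen_H hwH).trans hwa

/-- `cen x` centralizes its `t`-part. -/
lemma P_central (ht : t.Prime) (htm : t ∣ m) (hx : IsPPow t x) (hxm : sz x = m)
    (F : Factor (cen x) t) {a : G} (ha : a ∈ F.P) : cen x ≤ cen a := by
  by_cases hac : a ∈ Subgroup.center G
  · rw [cen_eq_top_iff.2 hac]; exact le_top
  · exact (h.cen_eq_x ht htm hx hxm F ha hac).ge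

lemma relIndex_all (ht : t.Prime) (htm : t ∣ m) (hx : IsPPow t x) (hxm : sz x = m) {g : G}
    (hg : g ∈ cen x) : (cen g).relIndex (cen x) = 1 ∨ (cen g).relIndex (cen x) = n := by
  obtain ⟨F⟩ := h.factor_x ht htm hx hxm
  have hn' : F.H ≤ Subgroup.normalizer (F.P : Set G) :=
    fun b hb => mem_normalizer_of_commute (F.cen_H hb)
  obtain ⟨a, ha, b, hb, rfl⟩ := (SolvBasic.mem_sup_iff_of_le_normalizer hn').1 (F.gen hg)
  have heq : cen (a * b) ⊓ cen x = cen b ⊓ cen x := by
    ext y
    simp only [Subgroup.mem_inf, and_congr_left_iff]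
    intro hy
    have hay : Commute a y := mem_cen.1 (h.P_central ht htm hx hxm F ha hy)
    constructor
    · intro h1
      have := (hay.inv_left).mul_left (show Commute (a * b) y from mem_cen.1 h1)
      rw [inv_mul_cancel_left] at this
      exact mem_cen.2 this
    · intro h1
      exact mem_cen.2 (hay.mul_left (show Commute b y from mem_cen.1 h1))
  rw [← Subgroup.inf_relIndex_right, heq, Subgroup.inf_relIndex_right]
  exact h.relIndex_cen_x ht hx hxm (F.leH hb) (F.cop b hb)

/-- Primes not dividing `n` give central parts of `cen x`. -/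
lemma central_part (ht : t.Prime) (htm : t ∣ m) (hx : IsPPow t x) (hxm : sz x = m) {l : ℕ}
    (hl : l.Prime) (hln : ¬ l ∣ n) {a : G} (ha : a ∈ cen x) (hal : IsPPow l a) :
    cen x ≤ cen a := by
  obtain ⟨F⟩ := exists_factor (C := cen x) hl fun g hg _ hd => by
    rcases h.relIndex_all ht htm hx hxm hg with e | e <;> rw [e] at hd
    · exact hl.not_dvd_one hd
    · exact hln hd
  have hn' : F.H ≤ Subgroup.normalizer (F.P : Set G) :=
    fun b hb => mem_normalizer_of_commute (F.cen_H hb)
  rcases h.relIndex_all ht htm hx hxm ha with e | e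
  · exact Subgroup.relIndex_eq_one.1 e
  · exfalso
    have h1 : n ∣ F.H.relIndex (cen x) :=
      e ▸ Subgroup.relIndex_dvd_of_le_left (cen x) (F.cen_P (F.mem_P a ha hal))
    have h2 : F.H.relIndex (cen x) ∣ Nat.card F.P := by
      have h3 := SolvBasic.card_sup_mul_card_inf hn'
      have h4 : Nat.card (F.P ⊔ F.H : Subgroup G) ∣ Nat.card F.P * Nat.card F.H := ⟨_, h3.symm⟩
      have h5 : Nat.card F.H * F.H.relIndex (cen x) = Nat.card (cen x) := by
        rw [← Subgroup.relIndex_bot_left, Subgroup.relIndex_mul_relIndex _ _ _ bot_le F.leH,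
          Subgroup.relIndex_bot_left]
      have h6 := (Subgroup.card_dvd_of_le F.gen).trans h4
      rw [← h5, mul_comm (Nat.card F.P)] at h6
      exact Nat.dvd_of_mul_dvd_mul_left Nat.card_pos h6
    haveI := Fact.mk hl
    obtain ⟨k, hk⟩ := F.isPGroup.exists_card_eq
    have h7 := h1.trans (hk ▸ h2)
    exact h.one_lt_n.ne' (Nat.eq_one_of_dvd_coprimes
      ((hl.coprime_iff_not_dvd.2 hln).pow_left k) h7 dvd_rfl)

lemma cen_of_pi (ht : t.Prime) (htm : t ∣ m) (hx : IsPPow t x) (hxm : sz x = m) {l : ℕ}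
    (hl : l.Prime) (hlm : l ∣ m) {a : G} (ha : a ∈ cen x) (hal : IsPPow l a)
    (hac : a ∉ Subgroup.center G) : cen a = cen x :=
  ((h.eq_of_m_le hxm (h.central_part ht htm hx hxm hl (h.not_dvd_n hl hlm) ha hal) hac).1).symm

/-- No `π`-element outside normalizes `cen x` and fixes one of its non-central elements. -/
lemma mem_of_commute (ht : t.Prime) (htm : t ∣ m) (hx : IsPPow t x) (hxm : sz x = m) {l : ℕ}
    (hl : l.Prime) (hlm : l ∣ m) {g k : G} (hg : g ∈ Subgroup.normalizer ((cen x : Subgroup G) : Set G))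
    (hgl : IsPPow l g) (hk : k ∈ cen x) (hkc : k ∉ Subgroup.center G) (hgk : g ∈ cen k) :
    g ∈ cen x := by
  obtain ⟨F⟩ := exists_factor (C := cen x) hl fun g hg _ hd => by
    rcases h.relIndex_all ht htm hx hxm hg with e | e <;> rw [e] at hd
    · exact hl.not_dvd_one hd
    · exact h.not_dvd_n hl hlm hd
  refine F.leP (mem_of_normalizes hl F.isPGroup (fun a ha => mem_cen_symm ?_) ?_ hgl hgk ?_)
  · exact h.central_part ht htm hx hxm hl (h.not_dvd_n hl hlm) (F.leP ha)
      (IsPPow.of_mem F.isPGroup ha) hk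
  · rw [h.fac_eq hl hlm hkc (h.not_center_of_m hxm)]
    exact F.fac hl
  · rw [Subgroup.mem_normalizer_iff]
    intro a
    constructor
    · intro ha
      exact F.mem_P _ ((Subgroup.mem_normalizer_iff.1 hg a).1 (F.leP ha))
        ((IsPPow.of_mem F.isPGroup ha).conj g)
    · intro ha
      refine F.mem_P _ ((Subgroup.mem_normalizer_iff.1 hg a).2 (F.leP ha)) ?_
      have := (IsPPow.of_mem F.isPGroup ha).conj g⁻¹
      rwa [show g⁻¹ * (g * a * g⁻¹) * g⁻¹⁻¹ = a by group] at this

/-- The centralizer of `x` is abelian. -/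
theorem cen_comm (ht : t.Prime) (htm : t ∣ m) (hx : IsPPow t x) (hxm : sz x = m) :
    ∀ a ∈ cen x, ∀ b ∈ cen x, a * b = b * a := by
  by_contra hna
  set C := cen x
  -- a non-central primary element of `C`
  obtain ⟨s, w, hs, hws, hwC, hwnc⟩ :
      ∃ (s : ℕ) (w : G), s.Prime ∧ IsPPow s w ∧ w ∈ C ∧ ¬ C ≤ cen w := by
    by_contra hc
    refine hna fun a ha b hb => ?_
    have hmem : a ∈ C ⊓ Subgroup.centralizer (C : Set G) := mem_of_primary fun p hp w hw hwp => by
      have hwC : w ∈ C := Subgroup.zpowers_le.2 ha hw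
      refine ⟨hwC, Subgroup.mem_centralizer_iff.2 fun y hy => ?_⟩
      by_contra hne
      exact hc ⟨p, w, hp, hwp, hwC, fun hle => hne (mem_cen.1 (hle hy)).symm⟩
    exact ((Subgroup.mem_centralizer_iff.1 hmem.2) b hb).symm
  haveI := Fact.mk hs
  have hsn : s ∣ n := by
    by_contra hsn
    exact hwnc (h.central_part ht htm hx hxm hs hsn hwC hws)
  have hsm : ¬ s ∣ m := fun hd => h.not_dvd_n hs hd hsn
  have hst : s ≠ t := fun e => hsm (e ▸ htm)
  have hwc : w ∉ Subgroup.center G := fun hz => hwnc ((cen_eq_top_iff.2 hz).symm ▸ le_top)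
  have hxc := h.not_center_of_m hxm
  -- every non-central element centralizes a non-central `s`-element
  have hbeta : ∀ g : G, g ∉ Subgroup.center G →
      ∃ a ∈ cen g, IsPPow s a ∧ a ∉ Subgroup.center G := by
    intro g hg
    refine exists_ppow_not_center hs ?_
    have hxw : Commute x w := mem_cen.1 hwC
    have heq := cen_mul_eq hxw (hx.coprime ht hs hst.symm hws)
    have hnc : x * w ∉ Subgroup.center G := fun hz => hxc (cen_eq_top_iff.1
      (top_le_iff.1 ((cen_eq_top_iff.2 hz).symm ▸ heq ▸ inf_le_left)))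
    have hmn : sz (x * w) = m * n := (h.sz_of_not_center hnc).resolve_left fun e => by
      have := eq_of_le_of_index (show cen (x * w) ≤ C from heq ▸ inf_le_left) (e.trans hxm.symm)
      exact hwnc (this ▸ (heq ▸ inf_le_right))
    have h1 := fac_center_lt hs (center_le_cen _)
      (show w ∈ cen (x * w) from heq ▸ ⟨hwC, mem_cen_self w⟩) hws hwc
    have hdvd : sz g ∣ sz (x * w) := by
      rw [hmn]; rcases h.sz_of_not_center hg with e | e <;> rw [e]; exact dvd_mul_right m n
    have h2 : (cen g).index.factorization s ≤ (cen (x * w)).index.factorization s :=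
      (Nat.factorization_le_iff_dvd (cen g).index_ne_zero_of_finite
        (cen (x * w)).index_ne_zero_of_finite).2 hdvd s
    have h3 := fac_index s (cen g)
    have h4 := fac_index s (cen (x * w))
    omega
  obtain ⟨S, hS⟩ := exists_sylow_le (p := s) (H := C) (by rw [show C.index = m from hxm]; exact hsm)
  -- every non-central `π`-element has centralizer conjugate to `C`
  have hconj : ∀ (l : ℕ) (g : G), l.Prime → l ∣ m → IsPPow l g → g ∉ Subgroup.center G →
      ∃ y : G, cen (y * g * y⁻¹) = C := by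
    intro l g hl hlm hgl hgc
    obtain ⟨a, ha, has, hac⟩ := hbeta g hgc
    suffices hy : ∃ y, y * g * y⁻¹ ∈ C by
      obtain ⟨y, hy⟩ := hy
      exact ⟨y, h.cen_of_pi ht htm hx hxm hl hlm hy (hgl.conj y) fun hz => hgc (by
        have h2 := (inferInstance : (Subgroup.center G).Normal).conj_mem _ hz y⁻¹
        rwa [show y⁻¹ * (y * g * y⁻¹) * y⁻¹⁻¹ = g by group] at h2)⟩
    have hmem : ∀ y, y * g * y⁻¹ ∈ cen (y * a * y⁻¹) := fun y => by
      rw [cen_conj]
      exact Subgroup.mem_map_of_mem _ (mem_cen_symm ha)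
    have hncy : ∀ y, y * a * y⁻¹ ∉ Subgroup.center G := fun y hz => hac (by
        have h2 := (inferInstance : (Subgroup.center G).Normal).conj_mem _ hz y⁻¹
        rwa [show y⁻¹ * (y * a * y⁻¹) * y⁻¹⁻¹ = a by group] at h2)
    rcases h.sz_of_not_center hac with e | e
    · obtain ⟨y, hy1, hy2⟩ := exists_conj_sylow S has (by rw [e]; exact hsm)
      refine ⟨y, ?_⟩
      have hrel : (cen (y * a * y⁻¹)).relIndex C = 1 := by
        rcases h.relIndex_all ht htm hx hxm (hS hy2) with e' | e'
        · exact e'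
        · exfalso
          exact S.not_dvd_index ((hsn.trans (e' ▸ Subgroup.relIndex_dvd_of_le_left C hy1)).trans
            (Subgroup.relIndex_dvd_index_of_le hS))
      show y * g * y⁻¹ ∈ cen x
      rw [(h.eq_of_m_le hxm (Subgroup.relIndex_eq_one.1 hrel) (hncy y)).1]
      exact hmem y
    · obtain ⟨y, hy⟩ := exists_conj_mem S has
      refine ⟨y, ?_⟩
      have hcomm : Commute x (y * a * y⁻¹) := mem_cen.1 (hS hy)
      have heq := cen_mul_eq hcomm (hx.coprime ht hs hst.symm (has.conj y))
      have hnc : x * (y * a * y⁻¹) ∉ Subgroup.center G := fun hz => hxc (cen_eq_top_iff.1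
        (top_le_iff.1 ((cen_eq_top_iff.2 hz).symm ▸ heq ▸ inf_le_left)))
      have he := (h.eq_of_le_mn hnc (heq ▸ inf_le_right) (by rw [sz_conj]; exact e)).1
      exact (heq ▸ inf_le_left : cen (x * (y * a * y⁻¹)) ≤ C) (he ▸ hmem y)
  set N := Subgroup.normalizer (C : Set G)
  -- the normalizer contains full Sylow subgroups
  have hfull : ∀ l : ℕ, l.Prime → l ∣ m → ∃ T : Sylow l G, (T : Subgroup G) ≤ N := by
    intro l hl hlm
    haveI := Fact.mk hl
    obtain ⟨T⟩ := (inferInstance : Nonempty (Sylow l G))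
    obtain ⟨u, huT, huc, -, hu⟩ := exists_special hl T.isPGroup' le_rfl Subgroup.le_normalizer
      (h.sylow_not_le_center hlm T)
    obtain ⟨y, hy⟩ := hconj l u hl hlm (IsPPow.of_mem T.isPGroup' huT) huc
    refine ⟨y • T, fun τ hτ => ?_⟩
    rw [Sylow.coe_subgroup_smul] at hτ
    obtain ⟨τ, hτ', rfl⟩ := Subgroup.mem_map.1 hτ
    show y * τ * y⁻¹ ∈ Subgroup.normalizer (C : Set G)
    rw [← hy]
    refine mem_normalizer_cen ?_
    rw [show y * τ * y⁻¹ * (y * u * y⁻¹) * (y * τ * y⁻¹)⁻¹ * (y * u * y⁻¹)⁻¹ =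
      y * (τ * u * τ⁻¹ * u⁻¹) * y⁻¹ by group]
    exact (inferInstance : (Subgroup.center G).Normal).conj_mem _ (hu τ hτ') y
  -- `C` is small modulo the centre
  have hsmall : Nat.card C ≤ m * Nat.card (Subgroup.center G) := by
    haveI := Fact.mk ht
    obtain ⟨T, hT⟩ := hfull t ht htm
    obtain ⟨g, hgT, hgC⟩ := SetLike.not_le_iff_exists.1 (show ¬ (T : Subgroup G) ≤ C from fun hle =>
      not_dvd_sz T hle (by rw [hxm]; exact htm))
    have hgt := IsPPow.of_mem T.isPGroup' hgT
    have hgc : g ∉ Subgroup.center G := fun hz => hgC (center_le_cen x hz)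
    obtain ⟨y, hy⟩ := hconj t g ht htm hgt hgc
    have hidx : (cen g).index = m := by
      show sz g = m
      rw [← sz_conj y g]; show (cen _).index = m; rw [hy]; exact hxm
    have hinf : C ⊓ cen g ≤ Subgroup.center G := fun k hk => by
      by_contra hkc
      exact hgC (h.mem_of_commute ht htm hx hxm ht htm (hT hgT) hgt hk.1 hkc (mem_cen_symm hk.2))
    have h1 : Nat.card C = Nat.card (C ⊓ cen g : Subgroup G) * (C ⊓ cen g).relIndex C := by
      rw [← Subgroup.relIndex_bot_left (C ⊓ cen g), Subgroup.relIndex_mul_relIndex _ _ _ bot_le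
        inf_le_left, Subgroup.relIndex_bot_left]
    rw [Subgroup.inf_relIndex_left] at h1
    rw [h1, mul_comm m]
    refine Nat.mul_le_mul (Subgroup.card_le_of_le hinf) ?_
    rw [← hidx, ← Subgroup.relIndex_top_right]
    exact Subgroup.relIndex_le_of_le_right le_top
      (by rw [Subgroup.relIndex_top_right]; exact Subgroup.index_ne_zero_of_finite)
  -- the orbit of the image of `w`
  letI : MulAction N ↥(bar C) := MulAction.compHom _ (actHom C C le_rfl)
  set ω : ↥(bar C) := ⟨_, Subgroup.mem_map_of_mem _ hwC⟩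
  have hω : ω ≠ 1 := fun e => hwc ((QuotientGroup.eq_one_iff w).1 (congrArg Subtype.val e))
  have horb : m ∣ Nat.card (MulAction.orbit N ω) := by
    have hos : Nat.card (MulAction.orbit N ω) * Nat.card (MulAction.stabilizer N ω) = Nat.card N := by
      rw [← Nat.card_prod]
      exact Nat.card_congr (MulAction.orbitProdStabilizerEquivGroup N ω)
    haveI : Nonempty (MulAction.orbit N ω) := ⟨⟨ω, MulAction.mem_orbit_self ω⟩⟩
    haveI : Finite ↥(MulAction.orbit N ω) := Subtype.finite
    rw [← Nat.factorization_le_iff_dvd h.m_ne_zero Nat.card_pos.ne']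
    intro l
    by_cases hlm : l ∣ m
    swap
    · rw [Nat.factorization_eq_zero_of_not_dvd hlm]; exact Nat.zero_le _
    by_cases hl : l.Prime
    swap
    · rw [Nat.factorization_eq_zero_of_not_prime _ hl]; exact Nat.zero_le _
    haveI := Fact.mk hl
    obtain ⟨T, hT⟩ := hfull l hl hlm
    have hN : (Nat.card G).factorization l ≤ (Nat.card N).factorization l := by
      have := fac_le_of_le l hT
      rwa [T.card_eq_multiplicity, hl.factorization_pow, Finsupp.single_eq_same] at this
    have hSt : (Nat.card (MulAction.stabilizer N ω)).factorization l ≤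
        (Nat.card C).factorization l := by
      obtain ⟨Q⟩ := (inferInstance : Nonempty (Sylow l (MulAction.stabilizer N ω)))
      have hle : (Q.1.map (MulAction.stabilizer N ω).subtype).map N.subtype ≤ C := by
        rintro _ ⟨q, hq, rfl⟩
        have hql : IsPPow l (q : G) := IsPPow.of_mem
          ((Q.isPGroup'.map _).map N.subtype) (Subgroup.mem_map_of_mem _ hq)
        obtain ⟨q', -, hqq⟩ := hq
        have hfix : actHom C C le_rfl q ω = ω := by rw [← hqq]; exact q'.2
        have h1 := congrArg Subtype.val hfix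
        rw [actHom_apply] at h1
        change QuotientGroup.mk' _ (q : G) * QuotientGroup.mk' _ w *
          (QuotientGroup.mk' _ (q : G))⁻¹ = QuotientGroup.mk' _ w at h1
        rw [← map_mul, ← map_inv, ← map_mul] at h1
        have h2 : (q : G) * w * (q : G)⁻¹ * w⁻¹ ∈ Subgroup.center G := by
          rw [← QuotientGroup.eq_one_iff]
          show QuotientGroup.mk' (Subgroup.center G) _ = 1
          rw [map_mul, h1, map_inv, mul_inv_cancel]
        exact h.mem_of_commute ht htm hx hxm hl hlm q.2 hql hwC hwc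
          (mem_cen_of_coprime h2 (hql.coprime hl hs (fun e => hsm (e ▸ hlm)) hws))
      have h1 := fac_le_of_le l hle
      rwa [Subgroup.card_map_of_injective N.subtype_injective,
        Subgroup.card_map_of_injective (MulAction.stabilizer N ω).subtype_injective,
        Q.card_eq_multiplicity, hl.factorization_pow, Finsupp.single_eq_same] at h1
    have h2 := h.fac_sum hl hlm hxc
    have h3 := congrArg (fun k => k.factorization l) hos
    simp only [Nat.factorization_mul Nat.card_pos.ne' Nat.card_pos.ne', Finsupp.add_apply] at h3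
    change (Nat.card C).factorization l + _ = _ at h2
    omega
  have hlt : Nat.card (MulAction.orbit N ω) < Nat.card ↥(bar C) := by
    rw [Nat.card_coe_set_eq, ← Set.ncard_univ]
    refine Set.ncard_lt_ncard (Set.ssubset_univ_iff.2 fun he => hω ?_) (Set.toFinite _)
    obtain ⟨q, hq⟩ := (he ▸ Set.mem_univ (1 : ↥(bar C)) : (1 : ↥(bar C)) ∈ MulAction.orbit N ω)
    exact (map_eq_one_iff (actHom C C le_rfl q) (MulEquiv.injective _)).1 hq
  have hbar : Nat.card ↥(bar C) * Nat.card (Subgroup.center G) = Nat.card C := by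
    have hker := Subgroup.relIndex_ker (K := C) (QuotientGroup.mk' (Subgroup.center G))
    rw [QuotientGroup.ker_mk'] at hker
    rw [show Nat.card ↥(bar C) = (Subgroup.center G).relIndex C from hker.symm]
    rw [mul_comm, ← Subgroup.relIndex_bot_left (Subgroup.center G),
      Subgroup.relIndex_mul_relIndex _ _ _ bot_le (center_le_cen x), Subgroup.relIndex_bot_left]
  haveI : Nonempty (MulAction.orbit N ω) := ⟨⟨ω, MulAction.mem_orbit_self ω⟩⟩
  have hle := Nat.le_of_dvd Nat.card_pos horb
  have : Nat.card ↥(bar C) ≤ m := by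
    rw [← hbar] at hsmall
    exact Nat.le_of_mul_le_mul_right hsmall Nat.card_pos
  omega

end Triple

end Cfsg.Agent.ClassTriple
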