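import Cfsg.Agent.Lib.ClassSizeTriple.Arith
import Cfsg.Agent.S4035

/-!
# Direct factors from class sizes inside a centralizer
-/

set_option autoImplicit false
set_option linter.style.haveILetI false

namespace Cfsg.Agent.ClassTriple

universe u

variable {G : Type u} [Group G]

lemma centralizer_subgroupOf (C : Subgroup G) (g : C) :
    Subgroup.centralizer ({g} : Set C) = (cen (g : G)).subgroupOf C := by
  ext y
  rw [Subgroup.mem_subgroupOf, mem_cen, Counting.mem_centralizer_singleton, ← Subtype.coe_inj]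
  rfl

/-- The data of a `p`-direct factor of a subgroup. -/
structure Factor (C : Subgroup G) (p : ℕ) where
  P : Subgroup G
  H : Subgroup G
  leP : P ≤ C
  leH : H ≤ C
  isPGroup : IsPGroup p P
  comm : ∀ a ∈ P, ∀ b ∈ H, a * b = b * a
  gen : C ≤ P ⊔ H
  mem_P : ∀ a ∈ C, IsPPow p a → a ∈ P
  mem_H : ∀ a ∈ C, (orderOf a).Coprime p → a ∈ H
  cop : ∀ a ∈ H, (orderOf a).Coprime p

variable [Finite G]

lemma Factor.fac {C : Subgroup G} {p : ℕ} (hp : p.Prime) (F : Factor C p) :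
    (Nat.card C).factorization p ≤ (Nat.card F.P).factorization p := by
  haveI := Fact.mk hp
  obtain ⟨Q⟩ := (inferInstance : Nonempty (Sylow p C))
  have hle : Q.1.map C.subtype ≤ F.P := by
    rintro _ ⟨a, ha, rfl⟩
    exact F.mem_P _ a.2 (IsPPow.of_mem (Q.isPGroup'.map C.subtype) (Subgroup.mem_map_of_mem _ ha))
  refine le_trans ?_ (fac_le_of_le p hle)
  rw [Subgroup.card_map_of_injective C.subtype_injective, Q.card_eq_multiplicity,
    hp.factorization_pow, Finsupp.single_eq_same]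

omit [Finite G] in
lemma Factor.cen_P {C : Subgroup G} {p : ℕ} (F : Factor C p) {a : G} (ha : a ∈ F.P) : F.H ≤ cen a :=
  fun b hb => mem_cen.2 (F.comm a ha b hb)

omit [Finite G] in
lemma Factor.cen_H {C : Subgroup G} {p : ℕ} (F : Factor C p) {b : G} (hb : b ∈ F.H) : F.P ≤ cen b :=
  fun a ha => mem_cen.2 (F.comm a ha b hb).symm

/-- S4035 inside a subgroup. -/
theorem exists_factor {C : Subgroup G} {p : ℕ} (hp : p.Prime)
    (h : ∀ g ∈ C, (orderOf g).Coprime p → ¬ p ∣ (cen g).relIndex C) : Nonempty (Factor C p) := by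
  haveI := Fact.mk hp
  obtain ⟨Q⟩ := (inferInstance : Nonempty (Sylow p C))
  have hcl : ∀ x : C, (orderOf x).Coprime p → ¬ p ∣ (ConjClasses.mk x).carrier.ncard := by
    intro x hx
    have h1 := Counting.card_carrier_mul x
    rw [Nat.card_coe_set_eq, centralizer_subgroupOf] at h1
    have h2 : (ConjClasses.mk x).carrier.ncard = (cen (x : G)).relIndex C := by
      have h3 := ((cen (x : G)).subgroupOf C).index_mul_card
      exact Nat.eq_of_mul_eq_mul_right Nat.card_pos (h1.trans h3.symm)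
    rw [h2]
    exact h x x.2 ((Subgroup.orderOf_coe x).symm ▸ hx)
  obtain ⟨hn, H, hH, hpH, hinf, hsup⟩ := S4035.result hcl Q
  haveI := hn
  haveI := hH
  have hcomm : ∀ a ∈ (Q : Subgroup C), ∀ b ∈ H, Commute a b := fun a ha b hb =>
    Subgroup.commute_of_normal_of_disjoint _ _ hn hH (disjoint_iff.2 hinf) a b ha hb
  have hdec : ∀ y : C, ∃ a ∈ (Q : Subgroup C), ∃ b ∈ H, y = a * b := fun y => by
    obtain ⟨a, ha, b, hb, e⟩ := Subgroup.mem_sup_of_normal_right.1
      (show y ∈ (Q : Subgroup C) ⊔ H from hsup ▸ Subgroup.mem_top y)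
    exact ⟨a, ha, b, hb, e.symm⟩
  have hcopH : ∀ b ∈ H, (orderOf b).Coprime p := fun b hb => by
    refine (Nat.Coprime.coprime_dvd_left ?_ (hp.coprime_iff_not_dvd.2 hpH).symm)
    exact Subgroup.orderOf_mk b hb ▸ orderOf_dvd_natCard (⟨b, hb⟩ : H)
  have key : ∀ y : C, (IsPPow p (y : G) → y ∈ (Q : Subgroup C)) ∧
      ((orderOf (y : G)).Coprime p → y ∈ H) := by
    intro y
    obtain ⟨a, ha, b, hb, rfl⟩ := hdec y
    have hab := hcomm a ha b hb
    obtain ⟨i, hi⟩ := (IsPPow.of_mem Q.isPGroup' ha).orderOf_eq hp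
    have hco : (orderOf a).Coprime (orderOf b) := by
      rw [hi]; exact ((hcopH b hb).symm).pow_left i
    refine ⟨fun hy => ?_, fun hy => ?_⟩
    · obtain ⟨k, hk⟩ := hy
      have h1 : (orderOf (a * b)) ∣ p ^ k := orderOf_dvd_of_pow_eq_one (Subtype.ext hk)
      rw [hab.orderOf_mul_eq_mul_orderOf_of_coprime hco] at h1
      have : b = 1 := orderOf_eq_one_iff.1 (Nat.eq_one_of_dvd_coprimes
        ((hcopH b hb).pow_right k) dvd_rfl (dvd_trans (dvd_mul_left _ _) h1))
      rw [this, mul_one]; exact ha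
    · rw [Subgroup.orderOf_coe, hab.orderOf_mul_eq_mul_orderOf_of_coprime hco, hi] at hy
      have : a = 1 := orderOf_eq_one_iff.1 (by
        rw [hi]
        exact Nat.eq_one_of_dvd_coprimes ((Nat.Coprime.coprime_mul_right hy).pow_right i)
          dvd_rfl dvd_rfl)
      rw [this, one_mul]; exact hb
  refine ⟨⟨(Q : Subgroup C).map C.subtype, H.map C.subtype, Subgroup.map_subtype_le _,
    Subgroup.map_subtype_le _, Q.isPGroup'.map _, ?_, ?_, ?_, ?_, ?_⟩⟩
  · rintro _ ⟨a, ha, rfl⟩ _ ⟨b, hb, rfl⟩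
    exact congrArg Subtype.val (hcomm a ha b hb).eq
  · rw [← Subgroup.map_sup, hsup, ← MonoidHom.range_eq_map, Subgroup.range_subtype]
  · exact fun a ha hpa => ⟨⟨a, ha⟩, (key ⟨a, ha⟩).1 hpa, rfl⟩
  · exact fun a ha hca => ⟨⟨a, ha⟩, (key ⟨a, ha⟩).2 hca, rfl⟩
  · rintro _ ⟨b, hb, rfl⟩
    rw [Subgroup.coe_subtype, Subgroup.orderOf_coe]
    exact hcopH b hb

/-- A centralizer contains a full Sylow subgroup for primes not dividing its index. -/
lemma exists_sylow_le {p : ℕ} [Fact p.Prime] {H : Subgroup G} (h : ¬ p ∣ H.index) :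
    ∃ S : Sylow p G, (S : Subgroup G) ≤ H := by
  obtain ⟨Q⟩ := (inferInstance : Nonempty (Sylow p H))
  refine ⟨Sylow.ofCard (Q.1.map H.subtype) ?_, Subgroup.map_subtype_le _⟩
  rw [Subgroup.card_map_of_injective H.subtype_injective, Q.card_eq_multiplicity,
    ← fac_index p H, Nat.factorization_eq_zero_of_not_dvd h, add_zero]

/-- Conjugating a `p`-element into a given Sylow subgroup. -/
lemma exists_conj_mem {p : ℕ} [Fact p.Prime] (S : Sylow p G) {a : G} (ha : IsPPow p a) :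
    ∃ y : G, y * a * y⁻¹ ∈ (S : Subgroup G) := by
  obtain ⟨S', hS'⟩ := (ha.isPGroup_zpowers Fact.out).exists_le_sylow
  obtain ⟨y, hy⟩ := MulAction.exists_smul_eq G S' S
  refine ⟨y, ?_⟩
  have : y * a * y⁻¹ ∈ ((y • S' : Sylow p G) : Subgroup G) := by
    rw [Sylow.coe_subgroup_smul]
    exact Subgroup.smul_mem_pointwise_smul a (MulAut.conj y) _ (hS' (Subgroup.mem_zpowers a))
  rwa [hy] at this

/-- Conjugating a Sylow-central element: the Sylow subgroup moves along. -/
lemma exists_conj_sylow {p : ℕ} [Fact p.Prime] (S : Sylow p G) {a : G} (ha : IsPPow p a)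
    (h : ¬ p ∣ sz a) :
    ∃ y : G, (S : Subgroup G) ≤ cen (y * a * y⁻¹) ∧ y * a * y⁻¹ ∈ (S : Subgroup G) := by
  obtain ⟨S', hS', haS'⟩ := exists_sylow_le_cen ha h
  obtain ⟨y, hy⟩ := MulAction.exists_smul_eq G S' S
  refine ⟨y, ?_, ?_⟩
  · rw [cen_conj, ← hy, Sylow.coe_subgroup_smul]
    exact Subgroup.map_mono hS'
  · rw [← hy, Sylow.coe_subgroup_smul]
    exact Subgroup.smul_mem_pointwise_smul a (MulAut.conj y) _ haS'

end Cfsg.Agent.ClassTriple
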